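import Cfsg.Agent.Lib.Coprime.Action

/-!
Coprime action, continued: trivial action modulo the Frattini subgroup, the P × Q lemma, the
Fitting decomposition and generation by centralisers.
-/

set_option autoImplicit false

open scoped Pointwise commutatorElement

namespace CfsgLib.Coprime

universe u

variable {G : Type u} [Group G]

/-- Trivial action modulo the Frattini subgroup, with order coprime to it, is trivial. -/
theorem le_centralizer_of_trivial_mod_frattini [Finite G] {A K : Subgroup G}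
    (_hAK : A ≤ Subgroup.normalizer (K : Set G))
    (hcop : (Nat.card A).Coprime (Nat.card (frattini K)))
    (htriv : ∀ a ∈ A, ∀ k ∈ K, a * k * a⁻¹ * k⁻¹ ∈ (frattini K).map K.subtype) :
    A ≤ Subgroup.centralizer (K : Set G) := by
  set F := (frattini K).map K.subtype with hF
  have hKF : K ≤ Subgroup.normalizer (F : Set G) := fun k hk => by
    rw [mem_normalizer_iff_conj_smul, hF,
      show MulAut.conj k = MulAut.conj (K.subtype ⟨k, hk⟩) from rfl, conj_smul_map]
    have : MulAut.conj (⟨k, hk⟩ : K) • frattini K = frattini K :=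
      conj_smul_eq_self_of_mem_normalizer
        (Subgroup.le_normalizer_of_normal (K := ⊤) (Subgroup.mem_top _))
    rw [this]
  have hAF : A ≤ Subgroup.normalizer (F : Set G) := by
    rw [le_normalizer_iff_conj_smul]
    intro a ha
    refine le_antisymm ?_ ?_
    all_goals
      first
      | (rw [conj_smul_le_iff]
         intro f hf
         have := F.mul_mem (htriv a ha f (Subgroup.map_subtype_le _ hf)) hf
         simpa [mul_assoc] using this)
      | (intro f hf
         rw [mem_conj_smul]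
         have := F.mul_mem (htriv a⁻¹ (A.inv_mem ha) f (Subgroup.map_subtype_le _ hf)) hf
         simpa [mul_assoc] using this)
  have hcF : Nat.card F = Nat.card (frattini K) :=
    (Nat.card_congr ((frattini K).equivMapOfInjective _ K.subtype_injective).toEquiv).symm
  have hsol : Group.IsSolvable F := by
    have : Group.IsNilpotent (frattini K) := frattini_nilpotent
    have : Group.IsSolvable (frattini K) := inferInstance
    exact isSolvable_map _ this
  have hgen : (K ⊓ Subgroup.centralizer (A : Set G)).subgroupOf K ⊔ frattini K = ⊤ := by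
    rw [eq_top_iff]
    rintro ⟨k, hk⟩ -
    obtain ⟨c, hc, hkc⟩ := exists_centralizing_in_coset hAF (hcF ▸ hcop) (Or.inr hsol) (k := k)
      fun a ha => by
        have := (Subgroup.mem_normalizer_iff''.mp (hKF hk) _).mp (htriv a ha k hk)
        simpa [mul_assoc] using this
    obtain ⟨f, hf, hfe⟩ := hkc
    have hcK : c ∈ K := by
      simpa using K.mul_mem hk (Subgroup.map_subtype_le _ (⟨f, hf, hfe⟩ : k⁻¹ * c ∈ F))
    have hc' : (⟨c, hcK⟩ : K) ∈ (K ⊓ Subgroup.centralizer (A : Set G)).subgroupOf K := ⟨hcK, hc⟩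
    have e : (⟨k, hk⟩ : K) = ⟨c, hcK⟩ * f⁻¹ := Subtype.ext (by
      rw [Subgroup.coe_mul, InvMemClass.coe_inv, show (f : G) = k⁻¹ * c from hfe]
      group)
    rw [e]
    exact Subgroup.mul_mem_sup hc' (inv_mem hf)
  have htop := frattini_nongenerating hgen
  rw [Subgroup.subgroupOf_eq_top] at htop
  intro a ha
  rw [Subgroup.mem_centralizer_iff]
  intro k hk
  exact (Subgroup.mem_centralizer_iff.mp (htop hk).2 a ha).symm

/-- Thompson's `P × Q` lemma. -/
theorem pq_lemma [Finite G] {p : ℕ} [hp : Fact p.Prime] {P Q U : Subgroup G}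
    (hP : IsPGroup p P) (hQ : (Nat.card Q).Coprime p) (hU : IsPGroup p U)
    (hPQ : P ≤ Subgroup.centralizer (Q : Set G))
    (hPU : P ≤ Subgroup.normalizer (U : Set G)) (hQU : Q ≤ Subgroup.normalizer (U : Set G))
    (hC : U ⊓ Subgroup.centralizer (P : Set G) ≤ Subgroup.centralizer (Q : Set G)) :
    Q ≤ Subgroup.centralizer (U : Set G) := by
  set C := U ⊓ Subgroup.centralizer (Q : Set G) with hCdef
  suffices hUC : U ≤ C by
    intro q hq
    rw [Subgroup.mem_centralizer_iff]
    intro u hu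
    exact (Subgroup.mem_centralizer_iff.mp (hUC hu).2 q hq).symm
  by_contra hUC
  set M := U ⊓ Subgroup.normalizer (C : Set G) with hM
  have hQC : Q ≤ Subgroup.normalizer (C : Set G) :=
    le_normalizer_inf_inf hQU (le_normalizer_centralizer Subgroup.le_normalizer)
  have hPC : P ≤ Subgroup.normalizer (C : Set G) :=
    le_normalizer_inf_inf hPU (le_normalizer_centralizer
      (hPQ.trans (Subgroup.centralizer_le_normalizer _)))
  have hCU : C < U := lt_of_le_not_ge inf_le_left hUC
  -- `M` is strictly larger than `C`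
  have hCM : ¬ M ≤ C := by
    intro hMC
    have := hU.isNilpotent
    have hlt : C.subgroupOf U < ⊤ := lt_top_iff_ne_top.mpr fun h =>
      hUC (Subgroup.subgroupOf_eq_top.mp h)
    obtain ⟨x, hx, hxC⟩ := SetLike.exists_of_lt (Group.normalizerCondition_of_isNilpotent _ hlt)
    rw [← Subgroup.subgroupOf_normalizer_eq inf_le_left, Subgroup.mem_subgroupOf] at hx
    exact hxC (Subgroup.mem_subgroupOf.mpr (hMC ⟨x.2, hx⟩))
  -- a commutator chain of `P` inside `M` reaches `C`
  have hPM : P ≤ Subgroup.normalizer (M : Set G) :=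
    le_normalizer_inf_inf hPU (hPC.trans Subgroup.le_normalizer)
  set E := P ⊔ M with hE
  have hEp : IsPGroup p E :=
    hP.to_sup_of_normal_right' (hU.to_le inf_le_left) hPM
  let c : ℕ → Subgroup G := fun n => (fun X : Subgroup G => ⁅X, P⁆)^[n] M
  have hcM : ∀ n, c n ≤ M := by
    intro n
    induction n with
    | zero => exact le_rfl
    | succ n ih =>
      change ((fun X : Subgroup G => ⁅X, P⁆)^[n + 1] M) ≤ M
      rw [Function.iterate_succ_apply']
      exact (Subgroup.commutator_mono ih le_rfl).trans (commutator_le_of_le_normalizer hPM)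
  have hterm : ∃ n, c n ≤ C := by
    have := hEp.isNilpotent
    obtain ⟨n, hn⟩ := Subgroup.nilpotent_iff_lowerCentralSeries.mp (inferInstance : Group.IsNilpotent E)
    refine ⟨n, ?_⟩
    have key : ∀ k, c k ≤ (Subgroup.lowerCentralSeries (⊤ : Subgroup E) k).map E.subtype := by
      intro k
      induction k with
      | zero =>
        rw [Subgroup.lowerCentralSeries_zero, ← MonoidHom.range_eq_map, Subgroup.range_subtype]
        exact le_sup_right
      | succ k ih =>
        change ((fun X : Subgroup G => ⁅X, P⁆)^[k + 1] M) ≤ _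
        rw [Function.iterate_succ_apply', Subgroup.lowerCentralSeries_succ,
          Subgroup.map_commutator, ← MonoidHom.range_eq_map, Subgroup.range_subtype]
        exact Subgroup.commutator_mono ih le_sup_left
    exact (key n).trans (by rw [hn, Subgroup.map_bot]; exact bot_le)
  classical
  have hpos : Nat.find hterm ≠ 0 := fun h0 => hCM (by simpa [h0, c] using Nat.find_spec hterm)
  obtain ⟨m, hm⟩ := Nat.exists_eq_succ_of_ne_zero hpos
  have hm1 : ¬ c m ≤ C := Nat.find_min hterm (by omega)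
  obtain ⟨x, hx, hxC⟩ := SetLike.not_le_iff_exists.mp hm1
  have hxM : x ∈ M := hcM m hx
  -- `[x, P] ⊆ C`
  have hxP : ∀ y ∈ P, ⁅x, y⁆ ∈ C := by
    intro y hy
    have h := Nat.find_spec hterm
    rw [hm] at h
    apply h
    change ⁅x, y⁆ ∈ ((fun X : Subgroup G => ⁅X, P⁆)^[m + 1] M)
    rw [Function.iterate_succ_apply']
    exact Subgroup.commutator_mem_commutator hx hy
  let T : Subgroup G :=
    { carrier := {t | t ∈ M ∧ ∀ y ∈ P, ⁅t, y⁆ ∈ C}
      one_mem' := ⟨M.one_mem, fun y _ => by simp⟩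
      mul_mem' := fun {s t} hs ht => ⟨M.mul_mem hs.1 ht.1, fun y hy => by
        rw [show ⁅s * t, y⁆ = s * ⁅t, y⁆ * s⁻¹ * ⁅s, y⁆ by simp [commutatorElement_def, mul_assoc]]
        exact C.mul_mem ((Subgroup.mem_normalizer_iff.mp hs.1.2 _).mp (ht.2 y hy)) (hs.2 y hy)⟩
      inv_mem' := fun {s} hs => ⟨M.inv_mem hs.1, fun y hy => by
        rw [show ⁅s⁻¹, y⁆ = s⁻¹ * ⁅s, y⁆⁻¹ * s by simp [commutatorElement_def, mul_assoc]]
        exact (Subgroup.mem_normalizer_iff''.mp hs.1.2 _).mp (C.inv_mem (hs.2 y hy))⟩ }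
  have hTP : ⁅⁅T, P⁆, Q⁆ = ⊥ := by
    rw [Subgroup.commutator_eq_bot_iff_le_centralizer]
    exact (Subgroup.commutator_le.mpr fun t (ht : t ∈ M ∧ ∀ y ∈ P, ⁅t, y⁆ ∈ C) y hy =>
      ht.2 y hy).trans inf_le_right
  have hPQT : ⁅⁅P, Q⁆, T⁆ = ⊥ := by
    rw [Subgroup.commutator_eq_bot_iff_le_centralizer.mpr hPQ, Subgroup.commutator_bot_left]
  have hQT : ⁅⁅Q, T⁆, P⁆ = ⊥ := Subgroup.commutator_commutator_eq_bot_of_rotate hTP hPQT
  rw [Subgroup.commutator_eq_bot_iff_le_centralizer] at hQT
  have hQTU : ⁅Q, T⁆ ≤ C := by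
    have h1 : ⁅Q, T⁆ ≤ U := by
      rw [Subgroup.commutator_comm]
      exact (Subgroup.commutator_mono (fun t (ht : t ∈ M ∧ ∀ y ∈ P, ⁅t, y⁆ ∈ C) => ht.1.1)
        le_rfl).trans
        (commutator_le_of_le_normalizer hQU)
    exact le_inf h1 ((le_inf h1 hQT).trans hC)
  refine hxC ⟨hxM.1, Subgroup.mem_centralizer_iff.mpr ?_⟩
  intro q hq
  have hc : ⁅q, x⁆ ∈ C := hQTU (Subgroup.commutator_mem_commutator hq ⟨hxM, hxP⟩)
  have hqc : Commute q ⁅q, x⁆ := Subgroup.mem_centralizer_iff.mp hc.2 q hq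
  have hpow : ∀ n : ℕ, q ^ n * x * (q ^ n)⁻¹ = ⁅q, x⁆ ^ n * x := by
    intro n
    induction n with
    | zero => simp
    | succ n ih =>
      calc q ^ (n + 1) * x * (q ^ (n + 1))⁻¹ = q * (q ^ n * x * (q ^ n)⁻¹) * q⁻¹ := by
            rw [pow_succ']; group
        _ = q * ⁅q, x⁆ ^ n * x * q⁻¹ := by rw [ih]; group
        _ = ⁅q, x⁆ ^ n * (q * x * q⁻¹) := by rw [(hqc.pow_right n).eq]; group
        _ = ⁅q, x⁆ ^ n * (⁅q, x⁆ * x) := by rw [commutatorElement_def]; group
        _ = ⁅q, x⁆ ^ (n + 1) * x := by rw [pow_succ]; group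
  have h1 : ⁅q, x⁆ ^ orderOf q = 1 := by
    have h := hpow (orderOf q)
    rw [pow_orderOf_eq_one, one_mul, inv_one, mul_one] at h
    exact mul_eq_right.mp h.symm
  obtain ⟨k, hk⟩ := hU ⟨_, hc.1⟩
  have h2 : ⁅q, x⁆ ^ (p ^ k) = 1 := congrArg Subtype.val hk
  have hco : Nat.gcd (orderOf q) (p ^ k) = 1 :=
    Nat.Coprime.pow_right k (hQ.coprime_dvd_left (Subgroup.orderOf_coe (⟨q, hq⟩ : Q) ▸ orderOf_dvd_natCard _))
  have h3 : ⁅q, x⁆ = 1 := by
    have := pow_gcd_eq_one.mpr ⟨h1, h2⟩
    rwa [hco, pow_one] at this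
  exact (commutatorElement_eq_one_iff_mul_comm.mp h3)

/-- Coprime action on an abelian group: the fixed points meet the commutator trivially. -/
theorem centralizer_inf_commutator_eq_bot [Finite G] {A V : Subgroup G} [IsMulCommutative V]
    (hAV : A ≤ Subgroup.normalizer (V : Set G)) (hcop : (Nat.card A).Coprime (Nat.card V)) :
    (V ⊓ Subgroup.centralizer (A : Set G)) ⊓ ⁅V, A⁆ = ⊥ := by
  classical
  let : Fintype A := Fintype.ofFinite A
  open scoped IsMulCommutative in
  let act : A → V →* V := fun a => MonoidHom.mk'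
    (fun v => ⟨a * v * (a : G)⁻¹, (Subgroup.mem_normalizer_iff.mp (hAV a.2) v).mp v.2⟩)
    (fun v w => Subtype.ext (by simp [mul_assoc]))
  open scoped IsMulCommutative in
  let θ : V →* V := ∏ a : A, act a
  open scoped IsMulCommutative in
  have hθ : ∀ (b : A) (v : V), θ (act b v) = θ v := by
    intro b v
    simp only [θ, MonoidHom.finsetProd_apply]
    refine Fintype.prod_equiv (Equiv.mulRight b) _ _ fun a => ?_
    exact Subtype.ext (by simp [act, mul_assoc])
  have hker : ⁅V, A⁆ ≤ (θ.ker).map V.subtype := by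
    rw [Subgroup.commutator_le]
    intro v hv a ha
    refine ⟨⟨v, hv⟩ * act ⟨a, ha⟩ ⟨v⁻¹, V.inv_mem hv⟩, ?_, by
      simp [act, commutatorElement_def, mul_assoc]⟩
    rw [SetLike.mem_coe, MonoidHom.mem_ker, map_mul, hθ, ← map_mul]
    convert θ.map_one
    exact Subtype.ext (by simp)
  rw [Subgroup.eq_bot_iff_forall]
  rintro c ⟨⟨hcV, hcA⟩, hc⟩
  obtain ⟨w, hw, rfl⟩ := hker hc
  open scoped IsMulCommutative in
  have hfix : θ w = w ^ Nat.card A := by
    rw [Nat.card_eq_fintype_card, ← Finset.card_univ, ← Finset.prod_const]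
    simp only [θ, MonoidHom.finsetProd_apply]
    refine Finset.prod_congr rfl fun a _ => Subtype.ext ?_
    have := Subgroup.mem_centralizer_iff.mp hcA a a.2
    simp only [Subgroup.coe_subtype] at this
    simp only [act, MonoidHom.mk'_apply]
    rw [this]; group
  rw [SetLike.mem_coe, MonoidHom.mem_ker, hfix] at hw
  have := (powCoprime hcop.symm).injective (a₁ := w) (a₂ := 1) (by simpa using hw)
  rw [this]; rfl

/-- Abelian groups: if two commuting automorphisms of prime order `q` have, with all their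
products `X Y^i`, no nontrivial fixed points and `q`-th powers are injective, the group is trivial. -/
theorem eq_one_of_fixedPointFree_pair {W : Type*} [CommGroup W] {q : ℕ} (hq : q.Prime)
    (hinj : ∀ w : W, w ^ q = 1 → w = 1) (X Y : MulAut W) (hXY : Commute X Y)
    (hX : X ^ q = 1) (hY : Y ^ q = 1) (hYfix : ∀ w, Y w = w → w = 1)
    (hfix : ∀ i < q, ∀ w, (X * Y ^ i) w = w → w = 1) (v : W) : v = 1 := by
  have key : ∀ (Z : MulAut W), Z ^ q = 1 → (∀ w, Z w = w → w = 1) → ∀ w : W,
      ∏ n ∈ Finset.range q, (Z ^ n) w = 1 := by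
    intro Z hZ hZfix w
    apply hZfix
    rw [map_prod]
    have h1 := Finset.prod_range_succ (fun n => (Z ^ n) w) q
    have h2 := Finset.prod_range_succ' (fun n => (Z ^ n) w) q
    rw [h1, hZ, pow_zero] at h2
    have h3 : ∏ n ∈ Finset.range q, (Z ^ (n + 1)) w = ∏ n ∈ Finset.range q, Z ((Z ^ n) w) :=
      Finset.prod_congr rfl fun n _ => by rw [pow_succ', MulAut.mul_apply]
    rw [h3] at h2
    exact (mul_right_cancel h2).symm
  have hrow : ∀ i ∈ Finset.range q, ∏ n ∈ Finset.range q, ((X * Y ^ i) ^ n) v = 1 := by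
    intro i hi
    refine key _ ?_ (hfix i (Finset.mem_range.mp hi)) v
    rw [(hXY.pow_right i).mul_pow, hX, ← pow_mul, mul_comm i q, pow_mul, hY, one_pow, one_mul]
  have hall := Finset.prod_eq_one hrow
  rw [Finset.prod_comm, Finset.prod_eq_single 0 (fun n hn hn0 => ?_)
    (fun h => absurd (Finset.mem_range.mpr hq.pos) h)] at hall
  · simp only [pow_zero, MulAut.one_apply, Finset.prod_const, Finset.card_range] at hall
    exact hinj v hall
  · have e : ∀ i : ℕ, ((X * Y ^ i) ^ n) v = ((Y ^ n) ^ i) ((X ^ n) v) := by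
      intro i
      rw [← MulAut.mul_apply, (hXY.pow_right i).mul_pow, ← pow_mul, ← pow_mul, mul_comm i n,
        (hXY.pow_pow n (n * i)).eq]
    simp only [e]
    refine key _ (by rw [← pow_mul, mul_comm, pow_mul, hY, one_pow]) (fun w hw => ?_) _
    apply hYfix
    have hcop : n.Coprime q := by
      refine ((Nat.Prime.coprime_iff_not_dvd hq).mpr fun hd => ?_).symm
      have := Nat.le_of_dvd (Nat.pos_of_ne_zero hn0) hd
      have := Finset.mem_range.mp hn
      omega
    obtain ⟨m, hm⟩ := Nat.exists_mul_mod_eq_one_of_coprime hcop hq.one_lt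
    have hfixpow : ((Y ^ n) ^ m) w = w := by
      clear hm
      induction m with
      | zero => simp
      | succ m ih => rw [pow_succ', MulAut.mul_apply, ih, hw]
    rwa [← pow_mul, pow_eq_pow_mod _ hY, hm.2, pow_one] at hfixpow

/-- A noncyclic finite abelian group has two independent elements of the same prime order. -/
theorem exists_pair_of_not_isCyclic {Q : Type*} [CommGroup Q] [Finite Q] (h : ¬ IsCyclic Q) :
    ∃ (q : ℕ) (x y : Q), q.Prime ∧ x ^ q = 1 ∧ y ^ q = 1 ∧ y ≠ 1 ∧ x ∉ Subgroup.zpowers y := by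
  obtain ⟨a, ha⟩ := Monoid.exists_orderOf_eq_exponent (G := Q) Monoid.ExponentExists.of_finite
  set C := Subgroup.zpowers a with hC
  have hne : C ≠ ⊤ := fun htop => h ⟨a, fun x => (htop ▸ Subgroup.mem_top x : x ∈ C)⟩
  have hnt : Nontrivial (Q ⧸ C) := by
    rw [← Finite.one_lt_card_iff_nontrivial, ← Subgroup.index_eq_card]
    exact Subgroup.one_lt_index_of_ne_top hne
  obtain ⟨q, hq, hqd⟩ := Nat.exists_prime_and_dvd
    (n := Nat.card (Q ⧸ C)) (Finite.one_lt_card_iff_nontrivial.mpr hnt).ne'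
  have := Fact.mk hq
  obtain ⟨b', hb'⟩ := exists_prime_orderOf_dvd_card' q hqd
  obtain ⟨b, rfl⟩ := QuotientGroup.mk'_surjective C b'
  set e := Monoid.exponent Q with he
  have hqe : q ∣ e :=
    hb' ▸ ((orderOf_map_dvd _ b).trans (Monoid.order_dvd_exponent b))
  obtain ⟨f, hf⟩ := hqe
  have hbq : b ^ q ∈ C := by
    rw [← QuotientGroup.eq_one_iff, QuotientGroup.mk_pow]
    exact hb' ▸ pow_orderOf_eq_one (QuotientGroup.mk' C b)
  obtain ⟨k, hk⟩ := Subgroup.mem_zpowers_iff.mp hbq
  have hkdvd : (q : ℤ) ∣ k := by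
    have h1 : a ^ (k * f) = 1 := by
      rw [zpow_mul, hk, zpow_natCast, ← pow_mul, ← hf]
      exact Monoid.pow_exponent_eq_one b
    rw [← orderOf_dvd_iff_zpow_eq_one, ha, hf] at h1
    push_cast at h1
    have hf0 : (f : ℤ) ≠ 0 := by
      intro h0
      have : f = 0 := by exact_mod_cast h0
      exact Monoid.exponent_ne_zero_of_finite (G := Q) (by rw [← he, hf, this, mul_zero])
    exact Int.dvd_of_mul_dvd_mul_right hf0 h1
  obtain ⟨l, rfl⟩ := hkdvd
  refine ⟨q, b * a ^ (-l), a ^ f, hq, ?_, ?_, ?_, fun hx => ?_⟩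
  · rw [mul_pow, ← hk, ← zpow_natCast (a ^ (-l)), ← zpow_mul, ← zpow_add]
    rw [show (q : ℤ) * l + -l * q = 0 by ring, zpow_zero]
  · rw [← pow_mul, mul_comm, ← hf, ← ha, pow_orderOf_eq_one]
  · intro h1
    rw [← orderOf_dvd_iff_pow_eq_one, ha, hf] at h1
    have hf0 : 0 < f := Nat.pos_of_ne_zero fun h0 =>
      Monoid.exponent_ne_zero_of_finite (G := Q) (by rw [← he, hf, h0, mul_zero])
    have := Nat.le_of_dvd hf0 h1
    have : q * f ≤ 1 * f := by rwa [one_mul]
    exact absurd (Nat.le_of_mul_le_mul_right this hf0) (not_le.mpr hq.one_lt)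
  · have hb : b ∈ C := by
      have hxC : b * a ^ (-l) ∈ C :=
        (Subgroup.zpowers_le.mpr (C.pow_mem (Subgroup.mem_zpowers a) f)) hx
      exact (Subgroup.mul_mem_cancel_right _ (C.zpow_mem (Subgroup.mem_zpowers a) _)).mp hxC
    rw [← QuotientGroup.eq_one_iff, ← QuotientGroup.mk'_apply] at hb
    rw [hb, orderOf_one] at hb'
    exact hq.one_lt.ne hb'

/-- In a finite nilpotent group the derived subgroup lies in every maximal subgroup. -/
theorem commutator_le_coatom {P : Type*} [Group P] [Finite P] [Group.IsNilpotent P]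
    {M : Subgroup P} (hM : IsCoatom M) : commutator P ≤ M := by
  have hn : M.Normal :=
    Subgroup.NormalizerCondition.normal_of_coatom _ Group.normalizerCondition_of_isNilpotent hM
  obtain ⟨x, -, hx⟩ := SetLike.exists_of_lt hM.lt_top
  have hle : Subgroup.zpowers x ⊔ M = ⊤ := hM.2 _ (lt_of_le_of_ne le_sup_right
    fun he => hx (he ▸ Subgroup.mem_sup_left (Subgroup.mem_zpowers x)))
  have h : Subgroup.map (QuotientGroup.mk' M) (Subgroup.zpowers x) = ⊤ := by
    have := congrArg (Subgroup.map (QuotientGroup.mk' M)) hle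
    rwa [Subgroup.map_sup, QuotientGroup.map_mk'_self, sup_bot_eq,
      Subgroup.map_top_of_surjective _ (QuotientGroup.mk'_surjective M)] at this
  rw [MonoidHom.map_zpowers] at h
  refine Subgroup.commutator_le.mpr fun a _ b _ => ?_
  rw [← QuotientGroup.eq_one_iff, ← QuotientGroup.mk'_apply, map_commutatorElement,
    commutatorElement_eq_one_iff_commute]
  obtain ⟨i, hi⟩ := Subgroup.mem_zpowers_iff.mp (h ▸ Subgroup.mem_top (QuotientGroup.mk' M a))
  obtain ⟨j, hj⟩ := Subgroup.mem_zpowers_iff.mp (h ▸ Subgroup.mem_top (QuotientGroup.mk' M b))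
  rw [← hi, ← hj]
  exact (Commute.refl _).zpow_zpow i j

/-- Generation of a `p`-group by centralisers of `y` and of the `x y^i`. -/
theorem pGroup_le_of_centralizer_le [Finite G] {p q : ℕ} [Fact p.Prime] (hq : q.Prime)
    {P R : Subgroup G} (hP : IsPGroup p P) (hqP : (Nat.card P).Coprime q) {A : Subgroup G}
    [IsMulCommutative A] (hcop : (Nat.card A).Coprime (Nat.card P))
    (hAP : A ≤ Subgroup.normalizer (P : Set G)) {x y : G} (hx : x ∈ A) (hy : y ∈ A)
    (hxq : x ^ q ∈ Subgroup.centralizer (P : Set G)) (hyq : y ^ q ∈ Subgroup.centralizer (P : Set G))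
    (hRy : P ⊓ Subgroup.centralizer {y} ≤ R)
    (hRx : ∀ i < q, P ⊓ Subgroup.centralizer {x * y ^ i} ≤ R) : P ≤ R := by
  classical
  have hAC : ∀ b ∈ A, A ≤ Subgroup.normalizer ((Subgroup.centralizer {b} : Subgroup G) : Set G) := by
    intro b hb a ha
    rw [mem_normalizer_iff_conj_smul]
    have hab : a * b * a⁻¹ = b := by
      have := congrArg Subtype.val (mul_comm' (⟨a, ha⟩ : A) ⟨b, hb⟩)
      simp only [Subgroup.coe_mul] at this
      rw [this]; group
    ext g
    rw [mem_conj_smul, Subgroup.mem_centralizer_singleton_iff,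
      Subgroup.mem_centralizer_singleton_iff]
    constructor <;> intro hg
    · calc g * b = g * (a * b * a⁻¹) := by rw [hab]
        _ = a * ((a⁻¹ * g * a) * b) * a⁻¹ := by group
        _ = a * (b * (a⁻¹ * g * a)) * a⁻¹ := by rw [hg]
        _ = (a * b * a⁻¹) * g := by group
        _ = b * g := by rw [hab]
    · calc a⁻¹ * g * a * b = a⁻¹ * (g * (a * b * a⁻¹)) * a := by group
        _ = a⁻¹ * ((a * b * a⁻¹) * g) * a := by rw [hab, hg]
        _ = b * (a⁻¹ * g * a) := by group
  -- the `A`-invariant subgroup generated by the centralisers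
  set S : Set G := insert y ((fun i => x * y ^ i) '' {i : ℕ | i < q}) with hS
  have hSA : S ⊆ A := by
    rintro b (rfl | ⟨i, -, rfl⟩)
    · exact hy
    · exact A.mul_mem hx (A.pow_mem hy i)
  set H := ⨆ b : S, P ⊓ Subgroup.centralizer {(b : G)} with hH
  have hHP : H ≤ P := iSup_le fun b => inf_le_left
  have hHR : H ≤ R := by
    refine iSup_le fun b => ?_
    obtain ⟨b, (rfl | ⟨i, hi, rfl⟩)⟩ := b
    · exact hRy
    · exact hRx i hi
  have hAH : A ≤ Subgroup.normalizer (H : Set G) := by
    rw [le_normalizer_iff_conj_smul]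
    intro a ha
    refine le_antisymm ?_ ?_
    · rw [hH, conj_smul_eq_map, Subgroup.map_iSup]
      refine iSup_le fun b => le_iSup_of_le b (le_of_eq ?_)
      rw [← conj_smul_eq_map]
      exact le_normalizer_iff_conj_smul.mp (le_normalizer_inf_inf hAP (hAC b (hSA b.2))) a ha
    · rw [Subgroup.subset_pointwise_smul_iff, ← map_inv, hH, conj_smul_eq_map, Subgroup.map_iSup]
      refine iSup_le fun b => le_iSup_of_le b (le_of_eq ?_)
      rw [← conj_smul_eq_map]
      exact le_normalizer_iff_conj_smul.mp (le_normalizer_inf_inf hAP (hAC b (hSA b.2))) a⁻¹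
        (A.inv_mem ha)
  suffices hPH : P ≤ H from hPH.trans hHR
  by_contra hne
  -- `N = H Φ(P)` is a proper normal `A`-invariant subgroup with abelian quotient
  have := hP.isNilpotent
  set N : Subgroup P := H.subgroupOf P ⊔ frattini P with hN
  have hNtop : N ≠ ⊤ := fun h =>
    hne (Subgroup.subgroupOf_eq_top.mp (frattini_nongenerating h))
  have hcomm : commutator P ≤ N := by
    refine le_trans ?_ le_sup_right
    rw [frattini, Order.radical, le_iInf₂_iff]
    intro M hM
    exact commutator_le_coatom hM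
  have hNn : N.Normal := Subgroup.Normal.of_commutator_le _ hcomm
  let σ : A →* MulAut P := P.normalizerMonoidHom.comp (Subgroup.inclusion hAP)
  have hσ : ∀ (a : A) (k : P), ((σ a k : P) : G) = a * k * (a : G)⁻¹ := fun _ _ => rfl
  have hHσ : ∀ a : A, (H.subgroupOf P).map (σ a).toMonoidHom ≤ H.subgroupOf P := by
    rintro a _ ⟨k, hk, rfl⟩
    rw [Subgroup.mem_subgroupOf]
    exact (Subgroup.mem_normalizer_iff.mp (hAH a.2) k).mp hk
  have hNσ' : ∀ a : A, N.map (σ a).toMonoidHom ≤ N := fun a => by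
    rw [hN, Subgroup.map_sup, show (σ a).toMonoidHom = (σ a : P →* P) from rfl]
    refine sup_le_sup (hHσ a) (le_of_eq ?_)
    exact (Subgroup.characteristic_iff_map_eq.mp frattini_characteristic (σ a))
  have hNσ : ∀ a : A, N.map (σ a : P →* P) = N := fun a => by
    refine le_antisymm (hNσ' a) fun k hk => ⟨σ a⁻¹ k, hNσ' a⁻¹ ⟨k, hk, rfl⟩, ?_⟩
    change σ a (σ a⁻¹ k) = k
    rw [← MulAut.mul_apply, ← map_mul, mul_inv_cancel, map_one, MulAut.one_apply]
  let : CommGroup (P ⧸ N) :=
    { (inferInstance : Group (P ⧸ N)) with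
      mul_comm := fun u v => by
        induction u using QuotientGroup.induction_on with
        | _ u =>
          induction v using QuotientGroup.induction_on with
          | _ v =>
            rw [← QuotientGroup.mk_mul, ← QuotientGroup.mk_mul, QuotientGroup.eq]
            have : (u * v)⁻¹ * (v * u) = ⁅v⁻¹, u⁻¹⁆ := by rw [commutatorElement_def]; group
            rw [this]
            exact hcomm (Subgroup.commutator_mem_commutator (Subgroup.mem_top _)
              (Subgroup.mem_top _)) }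
  let ρ : A →* MulAut (P ⧸ N) :=
    MonoidHom.mk' (fun a => QuotientGroup.congr N N (σ a) (hNσ a)) fun a b => by
      ext w
      induction w using QuotientGroup.induction_on with
      | _ w => exact congrArg QuotientGroup.mk (DFunLike.congr_fun (map_mul σ a b) w)
  have hρ : ∀ (a : A) (k : P), ρ a (k : P ⧸ N) = ((σ a k : P) : P ⧸ N) := fun _ _ => rfl
  have hfix : ∀ b : A, (b : G) ∈ S → ∀ w, ρ b w = w → w = 1 := by
    intro b hbS w hw
    induction w using QuotientGroup.induction_on with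
    | _ k =>
      rw [QuotientGroup.eq_one_iff]
      set B := Subgroup.zpowers (b : G) with hB
      have hBA : B ≤ A := Subgroup.zpowers_le.mpr b.2
      set N' := N.map P.subtype with hN'
      have hBN : B ≤ Subgroup.normalizer (N' : Set G) := by
        refine hBA.trans ?_
        rw [le_normalizer_iff_conj_smul]
        intro a ha
        rw [conj_smul_eq_map]
        refine Eq.trans ?_ (congrArg (Subgroup.map P.subtype) (hNσ ⟨a, ha⟩))
        rw [hN', Subgroup.map_map, Subgroup.map_map]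
        rfl
      have hBs : Group.IsSolvable B := Group.isSolvable_of_comm fun u v => mul_comm' u v
      have hcopB : (Nat.card B).Coprime (Nat.card N') :=
        (hcop.coprime_dvd_left (Subgroup.card_dvd_of_le hBA)).coprime_dvd_right
          (Subgroup.card_dvd_of_le (Subgroup.map_subtype_le N))
      obtain ⟨c, hc, hkc⟩ := exists_centralizing_in_coset hBN hcopB (Or.inl hBs) (k := (k : G))
        fun a ha => by
          obtain ⟨j, rfl⟩ := Subgroup.mem_zpowers_iff.mp ha
          have hj : ρ (b ^ j) (k : P ⧸ N) = k := by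
            rw [map_zpow]
            exact Subgroup.zpow_mem (MulAction.stabilizer (MulAut (P ⧸ N)) (k : P ⧸ N)) hw j
          rw [hρ, eq_comm, QuotientGroup.eq] at hj
          exact ⟨_, hj, by rw [Subgroup.coe_subtype, Subgroup.coe_mul, InvMemClass.coe_inv, hσ, Subgroup.coe_zpow]⟩
      obtain ⟨n, hn, hne'⟩ := hkc
      have hcP : c ∈ P := by
        have := P.mul_mem k.2 n.2
        rwa [show (n : G) = (k : G)⁻¹ * c from hne', mul_inv_cancel_left] at this
      have hcH : c ∈ H := le_iSup (fun b : S => P ⊓ Subgroup.centralizer {(b : G)}) ⟨b, hbS⟩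
        ⟨hcP, Subgroup.mem_centralizer_singleton_iff.mpr
          (Subgroup.mem_centralizer_iff.mp hc b (Subgroup.mem_zpowers _)).symm⟩
      have hcN : (⟨c, hcP⟩ : P) ∈ N := Subgroup.mem_sup_left hcH
      have e : k = (⟨c, hcP⟩ : P) * n⁻¹ := Subtype.ext (by
        rw [Subgroup.coe_mul, InvMemClass.coe_inv, show (n : G) = (k : G)⁻¹ * c from hne']
        group)
      rw [e]
      exact N.mul_mem hcN (N.inv_mem hn)
  have hρq : ∀ a : A, (a : G) ^ q ∈ Subgroup.centralizer (P : Set G) → ρ a ^ q = 1 := by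
    intro a ha
    rw [← map_pow]
    ext w
    induction w using QuotientGroup.induction_on with
    | _ k =>
      rw [hρ, MulAut.one_apply]
      congr 1
      apply Subtype.ext
      rw [hσ, SubmonoidClass.coe_pow, ← Subgroup.mem_centralizer_iff.mp ha k k.2]
      group
  have hone : ∀ w : P ⧸ N, w = 1 := by
    refine eq_one_of_fixedPointFree_pair hq (fun w hw => ?_) (ρ ⟨x, hx⟩) (ρ ⟨y, hy⟩)
      ((show Commute (⟨x, hx⟩ : A) ⟨y, hy⟩ from mul_comm' _ _).map ρ) (hρq _ hxq) (hρq _ hyq)
      (hfix ⟨y, hy⟩ (Set.mem_insert _ _)) (fun i hi => ?_)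
    · have hco : (orderOf w).Coprime q :=
        hqP.coprime_dvd_left (orderOf_dvd_natCard w |>.trans (Subgroup.card_quotient_dvd_card N))
      exact orderOf_eq_one_iff.mp (Nat.eq_one_of_dvd_coprimes hco dvd_rfl
        (orderOf_dvd_of_pow_eq_one hw))
    · rw [← map_pow, ← map_mul]
      exact hfix _ (Set.mem_insert_of_mem _ ⟨i, hi, rfl⟩)
  exact hNtop (eq_top_iff.mpr fun k _ => (QuotientGroup.eq_one_iff k).mp (hone k))

/-- Generation by centralisers, general version: `x`, `y` in the abelian group `A`, acting coprimely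
on `K`, with `q`-th powers acting trivially. -/
theorem le_of_centralizer_le [Finite G] {q : ℕ} (hq : q.Prime) {A K R : Subgroup G}
    [IsMulCommutative A] (hAK : A ≤ Subgroup.normalizer (K : Set G))
    (hcop : (Nat.card A).Coprime (Nat.card K)) (hqK : (Nat.card K).Coprime q)
    {x y : G} (hx : x ∈ A) (hy : y ∈ A)
    (hxq : x ^ q ∈ Subgroup.centralizer (K : Set G)) (hyq : y ^ q ∈ Subgroup.centralizer (K : Set G))
    (hRy : K ⊓ Subgroup.centralizer {y} ≤ R)
    (hRx : ∀ i < q, K ⊓ Subgroup.centralizer {x * y ^ i} ≤ R) : K ≤ R := by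
  have hAs : Group.IsSolvable A := Group.isSolvable_of_comm fun u v => mul_comm' u v
  have hdvd : Nat.card K ∣ Nat.card ↥(K ⊓ R) := by
    rw [← Nat.factorization_prime_le_iff_dvd Nat.card_pos.ne' Nat.card_pos.ne']
    intro p hp
    have := Fact.mk hp
    obtain ⟨S, hS⟩ := exists_invariant_sylow (p := p) hAK hcop (Or.inl hAs)
    have hSK : (S : Subgroup K).map K.subtype ≤ K := Subgroup.map_subtype_le _
    have hle := pGroup_le_of_centralizer_le hq (S.2.map K.subtype)
      (hqK.coprime_dvd_left (Subgroup.card_dvd_of_le hSK))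
      (hcop.coprime_dvd_right (Subgroup.card_dvd_of_le hSK)) hS hx hy
      (Subgroup.centralizer_le hSK hxq) (Subgroup.centralizer_le hSK hyq)
      ((inf_le_inf_right _ hSK).trans hRy) (fun i hi => (inf_le_inf_right _ hSK).trans (hRx i hi))
    have hd := Subgroup.card_dvd_of_le (le_inf hSK hle)
    rw [← Nat.card_congr ((S : Subgroup K).equivMapOfInjective _ K.subtype_injective).toEquiv,
      S.card_eq_multiplicity] at hd
    exact (hp.pow_dvd_iff_le_factorization Nat.card_pos.ne').mp hd
  exact (Subgroup.eq_of_le_of_card_ge inf_le_left (Nat.le_of_dvd Nat.card_pos hdvd)).ge.trans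
    inf_le_right

/-- A noncyclic quotient `A / D` provides a pair to feed `le_of_centralizer_le`. -/
theorem exists_pair_mod [Finite G] {A D : Subgroup G} [IsMulCommutative A] (hDA : D ≤ A)
    (h : ¬ ∃ a ∈ A, D ⊔ Subgroup.zpowers a = A) :
    ∃ (q : ℕ) (x y : G), q.Prime ∧ q ∣ Nat.card A ∧ x ∈ A ∧ y ∈ A ∧ x ^ q ∈ D ∧ y ^ q ∈ D ∧
      y ∉ D ∧ ∀ i : ℕ, x * y ^ i ∉ D := by
  open scoped IsMulCommutative in
  have hn : ¬ IsCyclic (A ⧸ D.subgroupOf A) := by
    rintro ⟨g, hg⟩
    obtain ⟨⟨a, ha⟩, rfl⟩ := QuotientGroup.mk'_surjective (D.subgroupOf A) g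
    refine h ⟨a, ha, le_antisymm (sup_le hDA (Subgroup.zpowers_le.mpr ha)) fun b hb => ?_⟩
    obtain ⟨j, hj⟩ := hg (QuotientGroup.mk' _ ⟨b, hb⟩)
    change (QuotientGroup.mk' _ (⟨a, ha⟩ : A)) ^ j = _ at hj
    rw [← map_zpow, QuotientGroup.mk'_apply, QuotientGroup.mk'_apply, eq_comm,
      QuotientGroup.eq, Subgroup.mem_subgroupOf] at hj
    simp only [Subgroup.coe_mul, InvMemClass.coe_inv, Subgroup.coe_zpow] at hj
    have hb' : b = a ^ j * (b⁻¹ * a ^ j)⁻¹ := by group
    rw [hb', sup_comm]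
    exact Subgroup.mul_mem_sup (Subgroup.zpow_mem_zpowers a j) (D.inv_mem hj)
  open scoped IsMulCommutative in
  obtain ⟨q, x', y', hq, hx, hy, hy1, hxy⟩ := exists_pair_of_not_isCyclic hn
  obtain ⟨⟨x, hxA⟩, rfl⟩ := QuotientGroup.mk'_surjective (D.subgroupOf A) x'
  obtain ⟨⟨y, hyA⟩, rfl⟩ := QuotientGroup.mk'_surjective (D.subgroupOf A) y'
  rw [QuotientGroup.mk'_apply] at hx hy hy1 hxy
  refine ⟨q, x, y, hq, ?_, hxA, hyA, ?_, ?_, ?_, fun i hi => hxy ?_⟩
  · have := orderOf_eq_prime (hp := ⟨hq⟩) hy (by simpa using hy1)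
    exact this ▸ (orderOf_dvd_natCard _).trans (Subgroup.card_quotient_dvd_card _)
  · rw [← QuotientGroup.mk_pow, QuotientGroup.eq_one_iff] at hx
    simpa [Subgroup.mem_subgroupOf] using hx
  · rw [← QuotientGroup.mk_pow, QuotientGroup.eq_one_iff] at hy
    simpa [Subgroup.mem_subgroupOf] using hy
  · intro hyD
    exact hy1 ((QuotientGroup.eq_one_iff _).mpr hyD)
  · rw [QuotientGroup.mk'_apply]
    have h1 : ((⟨x, hxA⟩ * ⟨y, hyA⟩ ^ i : A) : A ⧸ D.subgroupOf A) = 1 :=
      (QuotientGroup.eq_one_iff _).mpr (by simpa [Subgroup.mem_subgroupOf] using hi)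
    rw [QuotientGroup.mk_mul, QuotientGroup.mk_pow, mul_eq_one_iff_eq_inv] at h1
    rw [h1]
    exact Subgroup.inv_mem _ (Subgroup.pow_mem _ (Subgroup.mem_zpowers _) i)

/-- `K` is generated by the centralisers of the subgroups `B ≥ D` of `A` with `A / B` cyclic. -/
theorem le_of_centralizer_cyclic_quotient_le [Finite G] {A R : Subgroup G} [IsMulCommutative A]
    (n : ℕ) : ∀ (D K : Subgroup G), Nat.card A ≤ Nat.card D + n → D ≤ A →
      A ≤ Subgroup.normalizer (K : Set G) → (Nat.card A).Coprime (Nat.card K) →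
      D ≤ Subgroup.centralizer (K : Set G) →
      (∀ B : Subgroup G, B ≤ A → (∃ a ∈ A, B ⊔ Subgroup.zpowers a = A) →
        K ⊓ Subgroup.centralizer (B : Set G) ≤ R) → K ≤ R := by
  have hK : ∀ {D K : Subgroup G}, D ≤ Subgroup.centralizer (K : Set G) →
      K ≤ K ⊓ Subgroup.centralizer (D : Set G) := fun {D K} h =>
    le_inf le_rfl (Subgroup.le_centralizer_iff.mp h)
  induction n with
  | zero =>
    intro D K hn hDA hAK _ hD hR
    have : D = A := Subgroup.eq_of_le_of_card_ge hDA (by simpa using hn)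
    exact (hK hD).trans (hR D hDA ⟨1, A.one_mem, by simp [this]⟩)
  | succ n ih =>
    intro D K hn hDA hAK hcop hD hR
    by_cases hcyc : ∃ a ∈ A, D ⊔ Subgroup.zpowers a = A
    · exact (hK hD).trans (hR D hDA hcyc)
    obtain ⟨q, x, y, hq, hqA, hxA, hyA, hxq, hyq, hy, hxy⟩ := exists_pair_mod hDA hcyc
    have hqK : (Nat.card K).Coprime q := (hcop.coprime_dvd_left hqA).symm
    refine le_of_centralizer_le hq hAK hcop hqK hxA hyA (hD hxq) (hD hyq) ?_ ?_
    all_goals
      have step : ∀ b ∈ A, b ∉ D → K ⊓ Subgroup.centralizer {b} ≤ R := by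
        intro b hb hbD
        set D' := D ⊔ Subgroup.zpowers b
        have hlt : D < D' := lt_of_le_of_ne le_sup_left fun he =>
          hbD (he ▸ Subgroup.mem_sup_right (Subgroup.mem_zpowers b))
        have hcard : Nat.card D < Nat.card D' := lt_of_not_ge fun hge =>
          hlt.ne (Subgroup.eq_of_le_of_card_ge hlt.le hge)
        refine ih D' (K ⊓ Subgroup.centralizer {b}) (by omega)
          (sup_le hDA (Subgroup.zpowers_le.mpr hb)) ?_
          (hcop.coprime_dvd_right (Subgroup.card_dvd_of_le inf_le_left)) ?_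
          fun B hB hBc => (inf_le_inf_right _ inf_le_left).trans (hR B hB hBc)
        · refine le_normalizer_inf_inf hAK ?_
          have hle : A ≤ Subgroup.centralizer {b} := fun a ha =>
            Subgroup.mem_centralizer_singleton_iff.mpr
              (congrArg Subtype.val (mul_comm' (⟨a, ha⟩ : A) ⟨b, hb⟩))
          exact hle.trans Subgroup.le_normalizer
        · refine sup_le (hD.trans (Subgroup.centralizer_le inf_le_left)) ?_
          rw [Subgroup.zpowers_le, Subgroup.mem_centralizer_iff]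
          exact fun k hk => Subgroup.mem_centralizer_singleton_iff.mp hk.2
    · exact step y hyA hy
    · exact fun i _ => step _ (A.mul_mem hxA (A.pow_mem hyA i)) (hxy i)

/-- `K = ⟨C_K(B) : A / B cyclic⟩` for abelian `A` acting coprimely. -/
theorem le_of_cyclic_quotient [Finite G] {A K R : Subgroup G} [IsMulCommutative A]
    (hAK : A ≤ Subgroup.normalizer (K : Set G)) (hcop : (Nat.card A).Coprime (Nat.card K))
    (hR : ∀ B : Subgroup G, B ≤ A → (∃ a ∈ A, B ⊔ Subgroup.zpowers a = A) →
      K ⊓ Subgroup.centralizer (B : Set G) ≤ R) : K ≤ R :=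
  le_of_centralizer_cyclic_quotient_le (Nat.card A) ⊥ K (Nat.le_add_left _ _) bot_le hAK hcop
    bot_le hR

/-- For noncyclic abelian `A`, `K = ⟨C_K(a) : a ∈ A, a ≠ 1⟩`. -/
theorem le_of_centralizer_le_of_not_isCyclic [Finite G] {A K R : Subgroup G} [IsMulCommutative A]
    (hA : ¬ IsCyclic A) (hAK : A ≤ Subgroup.normalizer (K : Set G))
    (hcop : (Nat.card A).Coprime (Nat.card K))
    (hR : ∀ a ∈ A, a ≠ 1 → K ⊓ Subgroup.centralizer {a} ≤ R) : K ≤ R := by
  refine le_of_cyclic_quotient hAK hcop fun B hB hBc => ?_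
  rcases eq_or_ne B ⊥ with rfl | hne
  · obtain ⟨a, -, he⟩ := hBc
    rw [bot_sup_eq] at he
    exact absurd (he ▸ (inferInstance : IsCyclic (Subgroup.zpowers a))) hA
  · obtain ⟨⟨b, hb⟩, hbne⟩ := (Subgroup.ne_bot_iff_exists_ne_one (H := B)).mp hne
    have hb1 : b ≠ 1 := fun h => hbne (Subtype.ext h)
    exact (inf_le_inf_left _ (Subgroup.centralizer_le (Set.singleton_subset_iff.mpr hb))).trans
      (hR b (hB hb) hb1)

end CfsgLib.Coprime
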