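import Mathlib

/-!
Gaschütz's complement theorems for an abelian normal subgroup: existence and conjugacy.
-/

set_option autoImplicit false

open scoped Pointwise

namespace CfsgLib.Coprime

variable {G : Type*} [Group G]

open scoped IsMulCommutative in
/-- Gaschütz, existence: if the abelian normal subgroup `K` is complemented in `U` and
`|K|` is coprime to `[G : U]`, then `K` is complemented in `G`. -/
theorem gaschutz_exists [Finite G] (K U : Subgroup G) [K.Normal] [IsMulCommutative K]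
    (hKU : K ≤ U) (hcop : (Nat.card K).Coprime U.index)
    (A : Subgroup G) (hAU : A ≤ U) (hAK : A ⊓ K = ⊥) (hKA : K ⊔ A = U) :
    ∃ H : Subgroup G, Subgroup.IsComplement' K H := by
  classical
  -- the crossed homomorphism on `U` killing `A`
  have hex : ∀ u : U, ∃ k : K, (k : G)⁻¹ * u ∈ A := by
    intro u
    have hu : (u : G) ∈ K ⊔ A := hKA.symm ▸ u.2
    obtain ⟨k, hk, a, ha, hka⟩ := Subgroup.mem_sup_of_normal_left.mp hu
    exact ⟨⟨k, hk⟩, by simpa [← hka, mul_assoc] using ha⟩
  choose δ₀ hδ₀ using hex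
  have huniq : ∀ (u : U) (k : K), (k : G)⁻¹ * u ∈ A → δ₀ u = k := by
    intro u k hk
    have h1 : (δ₀ u : G)⁻¹ * k ∈ A := by
      have h := A.mul_mem (hδ₀ u) (A.inv_mem hk)
      have e : (δ₀ u : G)⁻¹ * (u : G) * ((k : G)⁻¹ * (u : G))⁻¹ = (δ₀ u : G)⁻¹ * k := by group
      rwa [e] at h
    have h2 : (δ₀ u : G)⁻¹ * k ∈ A ⊓ K := ⟨h1, K.mul_mem (K.inv_mem (δ₀ u).2) k.2⟩
    rw [hAK, Subgroup.mem_bot, inv_mul_eq_one] at h2
    exact Subtype.ext h2
  let act : G → K → K := fun g k => ⟨g * k * g⁻¹, ‹K.Normal›.conj_mem k k.2 g⟩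
  have hact_mul : ∀ g h k, act (g * h) k = act g (act h k) := fun g h k =>
    Subtype.ext (by simp [act, mul_assoc])
  have hact_hom : ∀ g k l, act g (k * l) = act g k * act g l := fun g k l =>
    Subtype.ext (by simp [act, mul_assoc])
  have hcocycle : ∀ u v : U, δ₀ (u * v) = δ₀ u * act (u : G) (δ₀ v) := by
    intro u v
    apply huniq
    have h := A.mul_mem (hδ₀ u) (hδ₀ v)
    rw [mul_comm (δ₀ u) (act _ _)]
    simpa [act, mul_assoc] using h
  -- transfer it to `G`
  let : Fintype (G ⧸ U) := Fintype.ofFinite _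
  let t : G ⧸ U → G := Quotient.out
  have ht : ∀ i : G ⧸ U, ((t i : G) : G ⧸ U) = i := fun i => QuotientGroup.out_eq' i
  let u : G → G ⧸ U → U := fun g i => ⟨(t (g • i))⁻¹ * (g * t i),
    QuotientGroup.eq.mp ((ht _).trans
      (by rw [← smul_eq_mul, ← MulAction.Quotient.smul_coe, ht]))⟩
  let δ : G → K := fun g => ∏ i : G ⧸ U, act (t (g • i)) (δ₀ (u g i))
  have hδmul : ∀ g h, δ (g * h) = δ g * act g (δ h) := by
    intro g h
    have hφ : act g (δ h) = ∏ i : G ⧸ U, act g (act (t (h • i)) (δ₀ (u h i))) :=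
      map_prod (MonoidHom.mk' (act g) (hact_hom g)) _ _
    have hφ' : δ g = ∏ i : G ⧸ U, act (t (g • h • i)) (δ₀ (u g (h • i))) :=
      (Equiv.prod_comp (MulAction.toPerm h : Equiv.Perm (G ⧸ U))
        fun i => act (t (g • i)) (δ₀ (u g i))).symm
    rw [hφ, hφ', ← Finset.prod_mul_distrib]
    refine Finset.prod_congr rfl fun i _ => ?_
    have hu : u (g * h) i = u g (h • i) * u h i := by
      apply Subtype.ext
      simp [u, mul_smul, mul_assoc]
    have e : t (g • h • i) * (u g (h • i) : G) = g * t (h • i) := by simp [u]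
    rw [mul_smul, hu, hcocycle, hact_hom, ← hact_mul, e, hact_mul]
  have hδK : ∀ k : K, δ k = k ^ U.index := by
    intro k
    have : ∀ i : G ⧸ U, act (t ((k : G) • i)) (δ₀ (u (k : G) i)) = k := by
      intro i
      have hi : (k : G) • i = i := by
        rw [← ht i, MulAction.Quotient.smul_coe, smul_eq_mul, QuotientGroup.eq]
        simpa [mul_assoc] using U.inv_mem (hKU (‹K.Normal›.conj_mem k k.2 (t i)⁻¹))
      have hd : δ₀ (u (k : G) i) = act (t i)⁻¹ k := by
        apply huniq
        simp [u, act, hi, mul_assoc]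
      rw [hi, hd, ← hact_mul]
      exact Subtype.ext (by simp [act])
    simp only [δ, this, Finset.prod_const, Finset.card_univ]
    rw [← Nat.card_eq_fintype_card, ← Subgroup.index_eq_card]
  have hact1 : ∀ g, act g 1 = 1 := fun g => Subtype.ext (by simp [act])
  have hone : δ 1 = 1 := by simpa using hδK 1
  let H : Subgroup G :=
    { carrier := {g | δ g = 1}
      one_mem' := hone
      mul_mem' := fun {a b} ha hb => by
        simp only [Set.mem_ofPred_eq] at ha hb ⊢
        rw [hδmul, ha, hb, one_mul, hact1]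
      inv_mem' := fun {a} ha => by
        simp only [Set.mem_ofPred_eq] at ha ⊢
        have h := hδmul a⁻¹ a
        rw [inv_mul_cancel, hone, ha, hact1, mul_one] at h
        exact h.symm }
  refine ⟨H, Subgroup.isComplement'_of_disjoint_and_mul_eq_univ ?_ ?_⟩
  · rw [disjoint_iff, Subgroup.eq_bot_iff_forall]
    rintro x ⟨hxK, hxH⟩
    have h2 : (⟨x, hxK⟩ : K) ^ U.index = 1 ^ U.index := by
      rw [one_pow, ← hδK]; exact hxH
    exact congrArg Subtype.val ((powCoprime hcop).injective h2)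
  · rw [Set.eq_univ_iff_forall]
    intro g
    obtain ⟨m, hm⟩ := (powCoprime hcop).surjective (δ g)
    refine ⟨m, m.2, (m : G)⁻¹ * g, ?_, by simp⟩
    change δ ((m : G)⁻¹ * g) = 1
    have hmm : (m : G)⁻¹ = ((m⁻¹ : K) : G) := by simp
    have hinv : act ((m⁻¹ : K) : G) (δ g) = δ g := Subtype.ext (by
      have := congrArg Subtype.val (mul_comm (m⁻¹) (δ g))
      simp [act] at this ⊢
      rw [this]; group)
    rw [hmm, hδmul, hδK, hinv, inv_pow, show m ^ U.index = δ g from hm, inv_mul_cancel]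

open scoped IsMulCommutative in
/-- Gaschütz, conjugacy: two complements of the abelian normal subgroup `K` with the same
intersection with `U` are conjugate by an element of `K`, provided `|K|` is coprime to
`[H₀ : U ∩ H₀]`. -/
theorem gaschutz_conj [Finite G] (K : Subgroup G) [K.Normal] [IsMulCommutative K]
    (H₀ H₁ U : Subgroup G) (h₀ : H₀ ⊓ K = ⊥) (h₁ : H₁ ⊓ K = ⊥)
    (hle : H₀ ≤ K ⊔ H₁) (hge : H₁ ≤ K ⊔ H₀)
    (hU : H₀ ⊓ U ≤ H₁) (hcop : (Nat.card K).Coprime (U.relIndex H₀)) :
    ∃ a ∈ K, MulAut.conj a • H₀ = H₁ := by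
  classical
  have hex : ∀ h : H₀, ∃ k : K, (k : G) * h ∈ H₁ := by
    intro h
    obtain ⟨k, hk, x, hx, hkx⟩ := Subgroup.mem_sup_of_normal_left.mp (hle h.2)
    exact ⟨⟨k⁻¹, K.inv_mem hk⟩, by simpa [← hkx, mul_assoc] using hx⟩
  choose n hn using hex
  have huniq : ∀ (h : H₀) (k : K), (k : G) * h ∈ H₁ → n h = k := by
    intro h k hk
    have h1 : (n h : G) * (k : G)⁻¹ ∈ H₁ ⊓ K := by
      refine ⟨?_, K.mul_mem (n h).2 (K.inv_mem k.2)⟩
      have := H₁.mul_mem (hn h) (H₁.inv_mem hk)
      simpa [mul_assoc] using this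
    rw [h₁, Subgroup.mem_bot, mul_inv_eq_one] at h1
    exact Subtype.ext h1
  let act : G → K → K := fun g k => ⟨g * k * g⁻¹, ‹K.Normal›.conj_mem k k.2 g⟩
  have hcocycle : ∀ a b : H₀, n (a * b) = n a * act (a : G) (n b) := by
    intro a b
    apply huniq
    have h := H₁.mul_mem (hn a) (hn b)
    simpa [act, mul_assoc] using h
  let V : Subgroup H₀ := U.subgroupOf H₀
  let : Fintype (H₀ ⧸ V) := Fintype.ofFinite _
  have hV : ∀ v ∈ V, n v = 1 := by
    intro v hv
    apply huniq
    simpa using hU ⟨v.2, Subgroup.mem_subgroupOf.mp hv⟩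
  have hwd : ∀ a b : H₀, QuotientGroup.leftRel V a b → n a = n b := by
    intro a b hab
    rw [QuotientGroup.leftRel_apply] at hab
    have h := hcocycle a (a⁻¹ * b)
    rw [mul_inv_cancel_left, hV _ hab] at h
    rw [h]
    exact Subtype.ext (by simp [act])
  let nq : H₀ ⧸ V → K := fun q => Quotient.liftOn' q n hwd
  let m : K := ∏ q : H₀ ⧸ V, nq q
  have hcop' : (Nat.card K).Coprime V.index := hcop
  have key : ∀ a : H₀, m = n a ^ V.index * act (a : G) m := by
    intro a
    have h1 : m = ∏ q : H₀ ⧸ V, nq (a • q) :=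
      (Equiv.prod_comp (MulAction.toPerm a : Equiv.Perm (H₀ ⧸ V)) nq).symm
    have h2 : ∀ q : H₀ ⧸ V, nq (a • q) = n a * act (a : G) (nq q) := by
      intro q
      induction q using Quotient.inductionOn' with
      | _ b => exact hcocycle a b
    have h3 : act (a : G) m = ∏ q : H₀ ⧸ V, act (a : G) (nq q) :=
      map_prod (MonoidHom.mk' (act (a : G)) fun k l => Subtype.ext (by simp [act, mul_assoc])) _ _
    conv_lhs => rw [h1]
    simp only [h2, Finset.prod_mul_distrib, Finset.prod_const, Finset.card_univ, h3]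
    rw [← Nat.card_eq_fintype_card, ← Subgroup.index_eq_card]
  obtain ⟨w, hw⟩ := (powCoprime hcop').surjective m
  have hn_eq : ∀ a : H₀, (w : G) * a * (w : G)⁻¹ = (n a : G) * a := by
    intro a
    have h1 : w ^ V.index = n a ^ V.index * act (a : G) w ^ V.index := by
      have hhom : act (a : G) (w ^ V.index) = act (a : G) w ^ V.index :=
        map_pow (MonoidHom.mk' (act (a : G)) fun k l => Subtype.ext (by simp [act, mul_assoc])) w _
      rw [← hhom, show w ^ V.index = m from hw]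
      exact key a
    rw [← mul_pow] at h1
    have h2 : w = n a * act (a : G) w := (powCoprime hcop').injective h1
    have h3 : (w : G) = (n a : G) * (a * w * (a : G)⁻¹) := congrArg Subtype.val h2
    conv_lhs => enter [1, 1]; rw [h3]
    group
  refine ⟨w, w.2, ?_⟩
  have hsub : MulAut.conj (w : G) • H₀ ≤ H₁ := by
    intro x hx
    rw [Subgroup.mem_pointwise_smul_iff_inv_smul_mem, MulAut.smul_def,
      MulAut.conj_inv_apply] at hx
    have := hn ⟨_, hx⟩
    rw [← hn_eq] at this
    simpa [mul_assoc] using this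
  refine le_antisymm hsub fun y hy => ?_
  obtain ⟨k, hk, x, hx, hkx⟩ := Subgroup.mem_sup_of_normal_left.mp (hge hy)
  have hwy : (w : G) * x * (w : G)⁻¹ ∈ MulAut.conj (w : G) • H₀ := by
    rw [Subgroup.mem_pointwise_smul_iff_inv_smul_mem, MulAut.smul_def, MulAut.conj_inv_apply]
    simpa [mul_assoc] using hx
  have h2 : y * ((w : G) * x * (w : G)⁻¹)⁻¹ ∈ H₁ ⊓ K := by
    refine ⟨H₁.mul_mem hy (H₁.inv_mem (hsub hwy)), ?_⟩
    have e : y * ((w : G) * x * (w : G)⁻¹)⁻¹ = k * (x * w * x⁻¹) * (w : G)⁻¹ := by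
      rw [← hkx]; group
    rw [e]
    exact K.mul_mem (K.mul_mem hk (‹K.Normal›.conj_mem w w.2 x)) (K.inv_mem w.2)
  rw [h₁, Subgroup.mem_bot, mul_inv_eq_one] at h2
  rwa [h2]

end CfsgLib.Coprime
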