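import Cfsg.Agent.Lib.Coprime.Basic
import Cfsg.Agent.Lib.Coprime.Gaschutz

/-!
Schur–Zassenhaus: conjugacy of complements.
-/

set_option autoImplicit false

open scoped Pointwise

namespace CfsgLib.Coprime

universe u

variable {G : Type u} [Group G]

/-- Product form of `K ⊔ H`-membership by a map: if two subgroups have the same image modulo
the normal subgroup `M`, one is contained in `M ⊔` the other. -/
theorem le_sup_of_map_mk'_le {M H K : Subgroup G} [M.Normal]
    (h : H.map (QuotientGroup.mk' M) ≤ K.map (QuotientGroup.mk' M)) : H ≤ M ⊔ K := by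
  rw [Subgroup.map_le_iff_le_comap, Subgroup.comap_map_eq, QuotientGroup.ker_mk'] at h
  rwa [sup_comm]

theorem conj_smul_map {G' : Type*} [Group G'] (f : G →* G') (g : G) (H : Subgroup G) :
    MulAut.conj (f g) • H.map f = (MulAut.conj g • H).map f := by
  simp only [conj_smul_eq_map, Subgroup.map_map]
  congr 1
  ext x
  simp

/-- Conjugacy of complements of a coprime solvable normal subgroup (`N` normal, complements given
by intersections and joins). -/
theorem sz_conj_of_derivedSeries (n : ℕ) : ∀ {G : Type u} [Group G] [Finite G]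
    (N : Subgroup G) [N.Normal], derivedSeries N n = ⊥ → ∀ (H K : Subgroup G), H ⊓ N = ⊥ →
    K ⊓ N = ⊥ → H ≤ N ⊔ K → K ≤ N ⊔ H → (Nat.card N).Coprime (Nat.card H) →
    ∃ a ∈ N, MulAut.conj a • H = K := by
  induction n with
  | zero =>
    intro G _ _ N _ hn H K h₀ h₁ hle hge _
    rw [derivedSeries_zero] at hn
    have hN : N = ⊥ := Subgroup.card_eq_one.mp (by
      rw [← Subgroup.card_top (G := N), hn, Subgroup.card_bot])
    refine ⟨1, N.one_mem, ?_⟩
    rw [hN, bot_sup_eq] at hle hge
    rw [map_one, one_smul]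
    exact le_antisymm hle hge
  | succ n ih =>
    intro G _ _ N _ hn H K h₀ h₁ hle hge hcop
    set M : Subgroup G := ⁅N, N⁆ with hM
    have hMN : M ≤ N := Subgroup.commutator_le_self N
    set N' := N.map (QuotientGroup.mk' M)
    have : IsMulCommutative N' := by
      refine ⟨⟨?_⟩⟩
      rintro ⟨_, a, ha, rfl⟩ ⟨_, b, hb, rfl⟩
      refine Subtype.ext ?_
      change QuotientGroup.mk' M a * QuotientGroup.mk' M b =
        QuotientGroup.mk' M b * QuotientGroup.mk' M a
      rw [← commutatorElement_eq_one_iff_mul_comm, ← map_commutatorElement,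
        QuotientGroup.mk'_apply, QuotientGroup.eq_one_iff]
      exact Subgroup.commutator_mem_commutator ha hb
    have hN'dvd : Nat.card N' ∣ Nat.card N := Subgroup.card_map_dvd N _
    have hH'dvd : Nat.card (H.map (QuotientGroup.mk' M)) ∣ Nat.card H := Subgroup.card_map_dvd H _
    have hcardHK : Nat.card K = Nat.card H := by
      have hH : H ⊔ N = N ⊔ K := by
        rw [sup_comm H N]
        exact le_antisymm (sup_le le_sup_left hle) (sup_le le_sup_left hge)
      have e1 := card_sup_of_inf_eq_bot (H := H) (Subgroup.le_normalizer_of_normal (K := H) (H := N)) h₀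
      have e2 := card_sup_of_inf_eq_bot (H := K) (Subgroup.le_normalizer_of_normal (K := K) (H := N)) h₁
      rw [sup_comm K N, ← hH, e1] at e2
      exact (Nat.eq_of_mul_eq_mul_right Nat.card_pos e2).symm
    have hK'dvd : Nat.card (K.map (QuotientGroup.mk' M)) ∣ Nat.card H :=
      hcardHK ▸ Subgroup.card_map_dvd K _
    obtain ⟨a', ha', hconj⟩ := gaschutz_conj N' (H.map (QuotientGroup.mk' M))
      (K.map (QuotientGroup.mk' M)) ⊥
      (inf_eq_bot_of_coprime ((hcop.coprime_dvd_left hN'dvd).coprime_dvd_right hH'dvd).symm)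
      (inf_eq_bot_of_coprime ((hcop.coprime_dvd_left hN'dvd).coprime_dvd_right hK'dvd).symm)
      (by rw [← Subgroup.map_sup]; exact Subgroup.map_mono hle)
      (by rw [← Subgroup.map_sup]; exact Subgroup.map_mono hge)
      (by rw [inf_bot_eq]; exact bot_le)
      (by rw [Subgroup.relIndex_bot_left]
          exact (hcop.coprime_dvd_left hN'dvd).coprime_dvd_right hH'dvd)
    obtain ⟨a, ha, rfl⟩ := ha'
    rw [conj_smul_map] at hconj
    set H₁ := MulAut.conj a • H
    -- now work inside `L = M ⊔ K`
    have hH₁le : H₁ ≤ M ⊔ K := le_sup_of_map_mk'_le hconj.le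
    have hKle : K ≤ M ⊔ H₁ := le_sup_of_map_mk'_le hconj.ge
    set L := M ⊔ K with hL
    have : (M.subgroupOf L).Normal := inferInstance
    have hsolvM : derivedSeries (M.subgroupOf L) n = ⊥ := by
      have hle' : derivedSeries M n = ⊥ := by
        have key : ∀ k : ℕ, (derivedSeries M k).map M.subtype ≤
            (derivedSeries N (k + 1)).map N.subtype := by
          intro k
          induction k with
          | zero =>
            rw [derivedSeries_zero, ← MonoidHom.range_eq_map, Subgroup.range_subtype,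
              derivedSeries_succ, derivedSeries_zero, Subgroup.map_commutator,
              ← MonoidHom.range_eq_map, Subgroup.range_subtype]
          | succ k ihk =>
            rw [derivedSeries_succ, derivedSeries_succ N (k + 1), Subgroup.map_commutator,
              Subgroup.map_commutator]
            exact Subgroup.commutator_mono ihk ihk
        have h := key n
        rw [hn, Subgroup.map_bot, le_bot_iff, Subgroup.map_eq_bot_iff,
          Subgroup.ker_subtype, le_bot_iff] at h
        exact h
      exact eq_bot_iff.mpr (by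
        have h := map_derivedSeries_le_derivedSeries
          (Subgroup.subgroupOfEquivOfLe (le_sup_left : M ≤ L)).toMonoidHom n
        rw [hle', le_bot_iff, Subgroup.map_eq_bot_iff] at h
        refine h.trans ?_
        rw [(MonoidHom.ker_eq_bot_iff _).mpr (MulEquiv.injective _)])
    have hMdvd : Nat.card (M.subgroupOf L) ∣ Nat.card N := by
      rw [Nat.card_congr (Subgroup.subgroupOfEquivOfLe (le_sup_left : M ≤ L)).toEquiv]
      exact Subgroup.card_dvd_of_le hMN
    have hHL : Nat.card (H₁.subgroupOf L) = Nat.card H := by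
      rw [Nat.card_congr (Subgroup.subgroupOfEquivOfLe hH₁le).toEquiv, card_conj_smul]
    have hKL : Nat.card (K.subgroupOf L) = Nat.card H := by
      rw [Nat.card_congr (Subgroup.subgroupOfEquivOfLe (le_sup_right : K ≤ L)).toEquiv, hcardHK]
    have hcop1 : (Nat.card (M.subgroupOf L)).Coprime (Nat.card H) :=
      hcop.coprime_dvd_left hMdvd
    obtain ⟨b, hb, hbconj⟩ := ih (M.subgroupOf L) hsolvM (H₁.subgroupOf L) (K.subgroupOf L)
      (inf_eq_bot_of_coprime (hHL ▸ hcop1.symm))
      (inf_eq_bot_of_coprime (hKL ▸ hcop1.symm))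
      (by rw [← Subgroup.subgroupOf_sup le_sup_left le_sup_right]
          exact Subgroup.comap_mono hH₁le)
      (by rw [← Subgroup.subgroupOf_sup le_sup_left hH₁le]
          exact Subgroup.comap_mono hKle)
      (hHL ▸ hcop1)
    refine ⟨(b : G) * a, N.mul_mem (hMN hb) ha, ?_⟩
    have h := conj_smul_map L.subtype b (H₁.subgroupOf L)
    rw [hbconj, Subgroup.map_subgroupOf_eq_of_le hH₁le,
      Subgroup.map_subgroupOf_eq_of_le (le_sup_right : K ≤ L)] at h
    rw [map_mul, mul_smul]
    exact h

/-- Conjugacy of two coprime complements of a solvable normal subgroup, relative form. -/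
theorem sz_conj_of_solvable [Finite G] {N : Subgroup G} [N.Normal] (hs : Group.IsSolvable N)
    {H K : Subgroup G} (h₀ : H ⊓ N = ⊥) (h₁ : K ⊓ N = ⊥) (hle : H ≤ N ⊔ K) (hge : K ≤ N ⊔ H)
    (hcop : (Nat.card N).Coprime (Nat.card H)) : ∃ a ∈ N, MulAut.conj a • H = K := by
  obtain ⟨n, hn⟩ := (Group.isSolvable_def N).mp hs
  exact sz_conj_of_derivedSeries n N hn H K h₀ h₁ hle hge hcop

/-- A nontrivial normal subgroup gives a smaller quotient. -/
theorem card_quotient_lt [Finite G] {N : Subgroup G} (h : N ≠ ⊥) :
    Nat.card (G ⧸ N) < Nat.card G := by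
  rw [← Subgroup.index_eq_card]
  conv_rhs => rw [← N.card_mul_index]
  exact lt_mul_of_one_lt_left (Nat.pos_of_ne_zero Subgroup.index_ne_zero_of_finite)
    (N.one_lt_card_iff_ne_bot.mpr h)

theorem card_lt_of_ne_top [Finite G] {H : Subgroup G} (h : H ≠ ⊤) :
    Nat.card H < Nat.card G := by
  rcases (Subgroup.card_le_card_group H).lt_or_eq with h' | h'
  · exact h'
  · exact absurd ((Subgroup.card_eq_iff_eq_top H).mp h') h

theorem sz_conj_of_solvable_quotient_aux (n : ℕ) : ∀ {G : Type u} [Group G] [Finite G],
    Nat.card G ≤ n → ∀ (N : Subgroup G) [N.Normal], (Nat.card N).Coprime N.index →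
    Group.IsSolvable (G ⧸ N) → ∀ (H K : Subgroup G), Subgroup.IsComplement' N H →
    Subgroup.IsComplement' N K → ∃ a ∈ N, MulAut.conj a • H = K := by
  induction n with
  | zero =>
    intro G _ _ hG
    exact absurd hG (Nat.not_le.mpr Nat.card_pos)
  | succ n ih =>
    intro G _ _ hG N _ hcop hsolv H K hH hK
    by_cases htop : N = ⊤
    · have hH' : H = ⊥ := Subgroup.isComplement'_top_left.mp (htop ▸ hH)
      have hK' : K = ⊥ := Subgroup.isComplement'_top_left.mp (htop ▸ hK)
      exact ⟨1, N.one_mem, by rw [map_one, one_smul, hH', hK']⟩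
    have hnt : Nontrivial (G ⧸ N) := by
      rw [← Finite.one_lt_card_iff_nontrivial, ← Subgroup.index_eq_card]
      exact Subgroup.one_lt_index_of_ne_top htop
    obtain ⟨p, Mb, hp, hMbn, hMbne, hMbp⟩ := exists_normal_pgroup (G := G ⧸ N)
    have := Fact.mk hp
    set M := Mb.comap (QuotientGroup.mk' N) with hM
    have : M.Normal := hMbn.comap _
    have hNM : N ≤ M := (QuotientGroup.ker_mk' N).symm.le.trans (MonoidHom.ker_le_comap _ _)
    have hcardH : Nat.card H = N.index := hH.symm.index_eq_card.symm
    have hcardK : Nat.card K = N.index := hK.symm.index_eq_card.symm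
    obtain ⟨k, hk⟩ := IsPGroup.iff_card.mp hMbp
    have hk0 : k ≠ 0 := by
      rintro rfl
      exact hMbne (Subgroup.card_eq_one.mp (by simpa using hk))
    have hcardM : Nat.card M = Nat.card N * p ^ k := by
      have h1 : N.relIndex M = p ^ k := by
        rw [← card_map_mk', hM, Subgroup.map_comap_eq_self_of_surjective
          (QuotientGroup.mk'_surjective N), hk]
      rw [← h1, ← Subgroup.relIndex_bot_left, ← Subgroup.relIndex_bot_left,
        Subgroup.relIndex_mul_relIndex _ _ _ bot_le hNM]
    have hpdvd : p ∣ N.index := by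
      have : p ^ k ∣ N.index := by
        rw [← hk, Subgroup.index_eq_card]
        exact Subgroup.card_subgroup_dvd_card Mb
      exact (dvd_pow_self p hk0).trans this
    have hpN : ¬ p ∣ Nat.card N := fun hd =>
      hp.ne_one (Nat.eq_one_of_dvd_coprimes hcop hd hpdvd)
    have hfact : (Nat.card M).factorization p = k := by
      rw [hcardM, Nat.factorization_mul Nat.card_pos.ne' (pow_ne_zero k hp.ne_zero)]
      simp [Nat.factorization_eq_zero_of_not_dvd hpN, Nat.Prime.factorization_self hp]
    -- `H ⊓ M` and `K ⊓ M` are Sylow `p`-subgroups of `M`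
    have hsyl : ∀ {L : Subgroup G}, Subgroup.IsComplement' N L →
        ∃ P : Sylow p M, (P : Subgroup M) = L.subgroupOf M ∧
          N ⊔ (L ⊓ M) = M := by
      intro L hL
      have hNLM : N ⊔ (L ⊓ M) = M := by
        refine le_antisymm (sup_le hNM inf_le_right) fun x hx => ?_
        obtain ⟨a, ha, l, hl, rfl⟩ := Subgroup.mem_sup_of_normal_left.mp
          (hL.sup_eq_top ▸ Subgroup.mem_top x)
        exact Subgroup.mul_mem_sup ha ⟨hl, by simpa using M.mul_mem (M.inv_mem (hNM ha)) hx⟩
      have hdisj : (L ⊓ M) ⊓ N = ⊥ :=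
        le_bot_iff.mp ((inf_le_inf_right N inf_le_left).trans
          (le_of_eq (by rw [inf_comm]; exact hL.disjoint.eq_bot)))
      have hc := card_sup_of_inf_eq_bot
        (Subgroup.le_normalizer_of_normal (K := L ⊓ M) (H := N)) hdisj
      rw [sup_comm, hNLM, hcardM, mul_comm] at hc
      have hcL : Nat.card (L.subgroupOf M) = p ^ (Nat.card M).factorization p := by
        rw [hfact, ← Subgroup.inf_subgroupOf_right,
          Nat.card_congr (Subgroup.subgroupOfEquivOfLe (inf_le_right : L ⊓ M ≤ M)).toEquiv]
        exact (Nat.eq_of_mul_eq_mul_right Nat.card_pos hc).symm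
      exact ⟨Sylow.ofCard _ hcL, rfl, hNLM⟩
    obtain ⟨P, hP, hPM⟩ := hsyl hH
    obtain ⟨Q, hQ, hQM⟩ := hsyl hK
    obtain ⟨m, hm⟩ := MulAction.exists_smul_eq M P Q
    obtain ⟨a, ha, h, hh, hmah⟩ := Subgroup.mem_sup_of_normal_left.mp
      (hPM.symm ▸ m.2 : (m : G) ∈ N ⊔ (H ⊓ M))
    have hPQ : MulAut.conj a • (H ⊓ M) = K ⊓ M := by
      have h1 : MulAut.conj m • (P : Subgroup M) = (Q : Subgroup M) := by
        rw [← hm]; rfl
      have h2 := conj_smul_map M.subtype m (H.subgroupOf M)
      rw [← hP, h1, hQ, hP, Subgroup.subgroupOf_map_subtype, Subgroup.subgroupOf_map_subtype,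
        Subgroup.coe_subtype, ← hmah, map_mul, mul_smul,
        conj_smul_eq_self_of_mem_normalizer (Subgroup.le_normalizer hh)] at h2
      exact h2
    set H₁ := MulAut.conj a • H with hH₁
    have hH₁c : Subgroup.IsComplement' N H₁ := by
      apply Subgroup.isComplement'_of_coprime
      · rw [card_conj_smul]; exact hH.card_mul_card
      · rw [card_conj_smul, hcardH]; exact hcop
    have hH₁M : H₁ ⊓ M = K ⊓ M := by
      rw [← hPQ, hH₁, Subgroup.smul_inf]
      congr 1
      exact (Subgroup.Normal.conjAct ‹M.Normal› (ConjAct.toConjAct a)).symm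
    set R := K ⊓ M with hR
    have hRne : R ≠ ⊥ := by
      intro hbot
      rw [hbot, sup_bot_eq] at hQM
      rw [← hQM] at hcardM
      have h1 : p ^ k = 1 := Nat.eq_of_mul_eq_mul_left Nat.card_pos (hcardM.symm.trans (mul_one _).symm)
      exact hk0 (by simpa [hp.ne_one] using h1)
    have hnormle : ∀ L : Subgroup G, L ≤ Subgroup.normalizer ((L ⊓ M : Subgroup G) : Set G) := by
      intro L x hx
      rw [Subgroup.mem_normalizer_iff]
      intro y
      simp only [Subgroup.mem_inf]
      have hMn : ∀ y, y ∈ M ↔ x * y * x⁻¹ ∈ M := fun y =>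
        ⟨fun h => ‹M.Normal›.conj_mem y h x, fun h => by
          simpa [mul_assoc] using ‹M.Normal›.conj_mem _ h x⁻¹⟩
      rw [← hMn y, Subgroup.mul_mem_cancel_right _ (L.inv_mem hx), Subgroup.mul_mem_cancel_left _ hx]
    have hH₁L : H₁ ≤ Subgroup.normalizer (R : Set G) := hH₁M ▸ hnormle H₁
    have hKL : K ≤ Subgroup.normalizer (R : Set G) := hnormle K
    set L := Subgroup.normalizer (R : Set G) with hL
    by_cases hLtop : L = ⊤
    · -- `R` is normal: pass to the quotient by `R`
      have : R.Normal := Subgroup.normalizer_eq_top_iff.mp hLtop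
      have hlt : Nat.card (G ⧸ R) ≤ n :=
        Nat.lt_succ_iff.mp ((card_quotient_lt hRne).trans_le hG)
      set f := QuotientGroup.mk' R with hf
      have hsurj : Function.Surjective f := QuotientGroup.mk'_surjective R
      have : (N.map f).Normal := ‹N.Normal›.map f hsurj
      have hidx : (N.map f).index ∣ N.index := Subgroup.index_map_dvd N hsurj
      have hcop' : (Nat.card (N.map f)).Coprime (N.map f).index :=
        (hcop.coprime_dvd_left (Subgroup.card_map_dvd N f)).coprime_dvd_right hidx
      have hsol' : Group.IsSolvable ((G ⧸ R) ⧸ N.map f) := by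
        refine Group.isSolvable_of_surjective (f := QuotientGroup.map N (N.map f) f
          (Subgroup.le_comap_map f N)) ?_
        intro y
        obtain ⟨y, rfl⟩ := QuotientGroup.mk'_surjective (N.map f) y
        obtain ⟨y, rfl⟩ := hsurj y
        exact ⟨QuotientGroup.mk y, rfl⟩
      have hcompl : ∀ {L' : Subgroup G}, Subgroup.IsComplement' N L' →
          Subgroup.IsComplement' (N.map f) (L'.map f) := by
        intro L' hL'
        have hcopL : (Nat.card (N.map f)).Coprime (Nat.card (L'.map f)) := by
          exact (hcop.coprime_dvd_left (Subgroup.card_map_dvd N f)).coprime_dvd_right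
            ((Subgroup.card_map_dvd L' f).trans (by rw [hL'.symm.index_eq_card]))
        refine Subgroup.isComplement'_of_disjoint_and_mul_eq_univ
          (disjoint_iff.mpr (inf_eq_bot_of_coprime hcopL)) ?_
        rw [← Subgroup.normal_mul, ← Subgroup.map_sup, hL'.sup_eq_top,
          Subgroup.map_top_of_surjective f hsurj, Subgroup.coe_top]
      obtain ⟨b', hb', hbeq⟩ := ih hlt (N.map f) hcop' hsol' (H₁.map f) (K.map f)
        (hcompl hH₁c) (hcompl hK)
      obtain ⟨b, hb, rfl⟩ := hb'
      refine ⟨b * a, N.mul_mem hb ha, ?_⟩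
      rw [map_mul, mul_smul, ← hH₁]
      rw [conj_smul_map] at hbeq
      have hle1 : R ≤ MulAut.conj b • H₁ := by
        have : MulAut.conj b • R = R := conj_smul_eq_self_of_mem_normalizer (hL ▸ hLtop ▸ Subgroup.mem_top b)
        rw [← this]
        exact Subgroup.pointwise_smul_le_pointwise_smul_iff.mpr (hH₁M ▸ inf_le_left)
      have := congrArg (Subgroup.comap f) hbeq
      rwa [Subgroup.comap_map_eq, Subgroup.comap_map_eq, hf, QuotientGroup.ker_mk',
        sup_eq_left.mpr hle1, sup_eq_left.mpr (inf_le_left : R ≤ K)] at this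
    · -- work inside `L`
      have hlt : Nat.card L ≤ n := Nat.lt_succ_iff.mp ((card_lt_of_ne_top hLtop).trans_le hG)
      have hsol' : Group.IsSolvable (L ⧸ N.subgroupOf L) := by
        refine Group.isSolvable_of_isSolvable_injective
          (f := QuotientGroup.lift (N.subgroupOf L) ((QuotientGroup.mk' N).comp L.subtype)
            (fun x hx => (QuotientGroup.eq_one_iff _).mpr hx)) ?_
        intro x y
        induction x using QuotientGroup.induction_on with
        | _ x =>
          induction y using QuotientGroup.induction_on with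
          | _ y =>
            intro hxy
            exact QuotientGroup.eq.mpr ((QuotientGroup.eq (s := N)).mp hxy)
      have hcompl : ∀ {L' : Subgroup G}, Subgroup.IsComplement' N L' → L' ≤ L →
          Subgroup.IsComplement' (N.subgroupOf L) (L'.subgroupOf L) := by
        intro L' hL' hle
        refine Subgroup.isComplement'_of_disjoint_and_mul_eq_univ ?_ ?_
        · rw [disjoint_iff, Subgroup.eq_bot_iff_forall]
          rintro x ⟨hx1, hx2⟩
          exact Subtype.ext (Subgroup.disjoint_def.mp hL'.disjoint hx1 hx2)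
        · rw [Set.eq_univ_iff_forall]
          intro x
          obtain ⟨u, hu, v, hv, huv⟩ := Subgroup.mem_sup_of_normal_left.mp
            (hL'.sup_eq_top ▸ Subgroup.mem_top (x : G))
          have huL : u ∈ L := by
            have h' := L.mul_mem x.2 (L.inv_mem (hle hv))
            rwa [← huv, mul_inv_cancel_right] at h'
          exact ⟨⟨u, huL⟩, hu, ⟨v, hle hv⟩, hv, Subtype.ext huv⟩
      have hcop' : (Nat.card (N.subgroupOf L)).Coprime (N.subgroupOf L).index :=
        (hcop.coprime_dvd_left
          (Subgroup.card_comap_dvd_of_injective N L.subtype L.subtype_injective)).coprime_dvd_right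
          (Subgroup.relIndex_dvd_index_of_normal N L)
      obtain ⟨b, hb, hbeq⟩ := ih hlt (N.subgroupOf L) hcop' hsol' (H₁.subgroupOf L)
        (K.subgroupOf L) (hcompl hH₁c hH₁L) (hcompl hK hKL)
      refine ⟨(b : G) * a, N.mul_mem hb ha, ?_⟩
      rw [map_mul, mul_smul, ← hH₁]
      have h' := conj_smul_map L.subtype b (H₁.subgroupOf L)
      rw [hbeq, Subgroup.map_subgroupOf_eq_of_le hH₁L, Subgroup.map_subgroupOf_eq_of_le hKL] at h'
      exact h'

/-- **Schur–Zassenhaus**, conjugacy: complements of a normal Hall subgroup `N` are conjugate by an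
element of `N`, provided `N` or `G ⧸ N` is solvable. -/
theorem sz_conj [Finite G] {N : Subgroup G} [N.Normal] (hcop : (Nat.card N).Coprime N.index)
    (hsolv : Group.IsSolvable N ∨ Group.IsSolvable (G ⧸ N)) {H K : Subgroup G}
    (hH : Subgroup.IsComplement' N H) (hK : Subgroup.IsComplement' N K) :
    ∃ a ∈ N, MulAut.conj a • H = K := by
  rcases hsolv with hs | hs
  · exact sz_conj_of_solvable hs (inf_comm H N ▸ hH.disjoint.eq_bot)
      (inf_comm K N ▸ hK.disjoint.eq_bot) (hK.sup_eq_top ▸ le_top) (hH.sup_eq_top ▸ le_top)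
      (by rwa [← hH.symm.index_eq_card])
  · exact sz_conj_of_solvable_quotient_aux _ le_rfl N hcop hs H K hH hK

/-- Relative form of Schur–Zassenhaus conjugacy: if `H` and `K` both meet `N` trivially and have
the same product with `N`, they are conjugate by an element of `N` (`N` or `H` solvable). -/
theorem sz_conj_rel [Finite G] {N H K : Subgroup G} (hHN : H ≤ Subgroup.normalizer (N : Set G))
    (_hKN : K ≤ Subgroup.normalizer (N : Set G))
    (hcop : (Nat.card N).Coprime (Nat.card H)) (hcard : Nat.card K = Nat.card H)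
    (hle : K ≤ N ⊔ H) (hsolv : Group.IsSolvable N ∨ Group.IsSolvable H) :
    ∃ a ∈ N, MulAut.conj a • H = K := by
  set L := N ⊔ H with hL
  have hLN : L ≤ Subgroup.normalizer (N : Set G) := sup_le Subgroup.le_normalizer hHN
  have : (N.subgroupOf L).Normal := Subgroup.normal_subgroupOf_of_le_normalizer hLN
  have hcL : Nat.card L = Nat.card N * Nat.card H := by
    rw [hL, sup_comm, mul_comm]
    exact card_sup_of_inf_eq_bot hHN (inf_eq_bot_of_coprime hcop.symm)
  have hcN : Nat.card (N.subgroupOf L) = Nat.card N :=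
    Nat.card_congr (Subgroup.subgroupOfEquivOfLe (le_sup_left : N ≤ L)).toEquiv
  have hcH : Nat.card (H.subgroupOf L) = Nat.card H :=
    Nat.card_congr (Subgroup.subgroupOfEquivOfLe (le_sup_right : H ≤ L)).toEquiv
  have hcK : Nat.card (K.subgroupOf L) = Nat.card H :=
    (Nat.card_congr (Subgroup.subgroupOfEquivOfLe hle).toEquiv).trans hcard
  have hidx : (N.subgroupOf L).index = Nat.card H := by
    have h := (N.subgroupOf L).card_mul_index
    rw [hcN, hcL] at h
    exact Nat.eq_of_mul_eq_mul_left Nat.card_pos h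
  have hH : Subgroup.IsComplement' (N.subgroupOf L) (H.subgroupOf L) :=
    Subgroup.isComplement'_of_coprime (by rw [hcN, hcH, hcL]) (by rwa [hcN, hcH])
  have hK : Subgroup.IsComplement' (N.subgroupOf L) (K.subgroupOf L) :=
    Subgroup.isComplement'_of_coprime (by rw [hcN, hcK, hcL]) (by rwa [hcN, hcK])
  have hs : Group.IsSolvable (N.subgroupOf L) ∨ Group.IsSolvable (L ⧸ N.subgroupOf L) := by
    refine hsolv.imp (isSolvable_subgroupOf L) fun h => ?_
    have : Group.IsSolvable (H.subgroupOf L) := isSolvable_subgroupOf L h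
    exact Group.isSolvable_of_surjective
      (f := (hH.symm.QuotientMulEquiv.symm).toMonoidHom) (MulEquiv.surjective _)
  obtain ⟨a, ha, heq⟩ := sz_conj (by rwa [hcN, hidx]) hs hH hK
  refine ⟨a, ha, ?_⟩
  have h' := conj_smul_map L.subtype a (H.subgroupOf L)
  rw [heq, Subgroup.map_subgroupOf_eq_of_le (le_sup_right : H ≤ L),
    Subgroup.map_subgroupOf_eq_of_le hle] at h'
  exact h'

/-- A subgroup of coprime order is conjugate into a given complement. -/
theorem sz_conj_le [Finite G] {N H U : Subgroup G} (hHN : H ≤ Subgroup.normalizer (N : Set G))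
    (hU : U ≤ N ⊔ H) (hcop : (Nat.card N).Coprime (Nat.card H))
    (hcopU : (Nat.card N).Coprime (Nat.card U))
    (hsolv : Group.IsSolvable N ∨ Group.IsSolvable U) :
    ∃ a ∈ N, MulAut.conj a • U ≤ H := by
  have hLN : N ⊔ H ≤ Subgroup.normalizer (N : Set G) := sup_le Subgroup.le_normalizer hHN
  have hUN : U ≤ Subgroup.normalizer (N : Set G) := hU.trans hLN
  set H' := H ⊓ (N ⊔ U) with hH'
  have hsup : N ⊔ U = N ⊔ H' := by
    refine le_antisymm (fun x hx => ?_) (sup_le le_sup_left inf_le_right)
    have hx' : x ∈ H ⊔ N := by rw [sup_comm]; exact (sup_le le_sup_left hU) hx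
    obtain ⟨h, hh, v, hv, rfl⟩ := (mem_sup_iff_of_le_normalizer hHN).mp hx'
    have hh' : h ∈ H' :=
      ⟨hh, (Subgroup.mul_mem_cancel_right _ (Subgroup.mem_sup_left hv)).mp hx⟩
    exact Subgroup.mul_mem _ (Subgroup.mem_sup_right hh') (Subgroup.mem_sup_left hv)
  have hH'N : H' ≤ Subgroup.normalizer (N : Set G) := inf_le_left.trans hHN
  have hcard : Nat.card H' = Nat.card U := by
    have e1 := card_sup_of_inf_eq_bot hUN (inf_eq_bot_of_coprime hcopU.symm)
    have e2 := card_sup_of_inf_eq_bot hH'N (inf_eq_bot_of_coprime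
      (hcop.coprime_dvd_right (Subgroup.card_dvd_of_le inf_le_left)).symm)
    rw [sup_comm, ← hsup, sup_comm, e1] at e2
    exact (Nat.eq_of_mul_eq_mul_right Nat.card_pos e2).symm
  obtain ⟨a, ha, heq⟩ := sz_conj_rel hUN hH'N hcopU hcard
    (hsup.symm ▸ le_sup_right) hsolv
  exact ⟨a, ha, heq ▸ inf_le_left⟩

end CfsgLib.Coprime
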