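import Mathlib
import Cfsg.Prelude.Def_HallClasses

/-!
Basic lemmas for coprime orders, π-subgroups and Hall subgroups.
-/

set_option autoImplicit false

open scoped Pointwise

namespace CfsgLib.Coprime

universe u

variable {G : Type u} [Group G]

/-- A finite solvable nontrivial group has a nontrivial normal elementary abelian `p`-subgroup,
for some prime `p`. -/
theorem exists_normal_elementaryAbelian [Finite G] [Group.IsSolvable G] [Nontrivial G] :
    ∃ (p : ℕ) (N : Subgroup G), p.Prime ∧ N.Normal ∧ N ≠ ⊥ ∧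
      (∀ a ∈ N, ∀ b ∈ N, a * b = b * a) ∧ (∀ a ∈ N, a ^ p = 1) := by
  classical
  obtain ⟨n, hn⟩ := (Group.isSolvable_def G).mp inferInstance
  have hex : ∃ n, derivedSeries G n = ⊥ := ⟨n, hn⟩
  have hm0 : Nat.find hex ≠ 0 := by
    intro h0
    have := Nat.find_spec hex
    rw [h0, derivedSeries_zero] at this
    exact (top_ne_bot : (⊤ : Subgroup G) ≠ ⊥) this
  obtain ⟨k, hk⟩ := Nat.exists_eq_succ_of_ne_zero hm0
  set A := derivedSeries G k with hA
  have hAne : A ≠ ⊥ := Nat.find_min hex (by omega)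
  have hAA : ⁅A, A⁆ = ⊥ := by
    have := Nat.find_spec hex
    rw [hk, derivedSeries_succ] at this
    exact this
  have hcomm : ∀ a ∈ A, ∀ b ∈ A, a * b = b * a := fun a ha b hb =>
    commutatorElement_eq_one_iff_mul_comm.mp
      (by simpa [hAA] using Subgroup.commutator_mem_commutator ha hb)
  have h1 : Nat.card A ≠ 1 := fun h => hAne (Subgroup.card_eq_one.mp h)
  obtain ⟨p, hp, hpdvd⟩ := Nat.exists_prime_and_dvd h1
  have := Fact.mk hp
  let N : Subgroup G :=
    { carrier := {a | a ∈ A ∧ a ^ p = 1}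
      one_mem' := ⟨A.one_mem, one_pow p⟩
      mul_mem' := fun {a b} ha hb =>
        ⟨A.mul_mem ha.1 hb.1, by
          rw [(Commute.mul_pow (hcomm a ha.1 b hb.1) p), ha.2, hb.2, one_mul]⟩
      inv_mem' := fun {a} ha => ⟨A.inv_mem ha.1, by rw [inv_pow, ha.2, inv_one]⟩ }
  refine ⟨p, N, hp, ⟨fun a ha g => ?_⟩, ?_, fun a ha b hb => hcomm a ha.1 b hb.1,
    fun a ha => ha.2⟩
  · refine ⟨(derivedSeries_normal G k).conj_mem a ha.1 g, ?_⟩
    rw [conj_pow, ha.2]; group
  · obtain ⟨x, hx⟩ := exists_prime_orderOf_dvd_card' p hpdvd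
    intro hbot
    have hxN : (x : G) ∈ N := ⟨x.2, by
      rw [← orderOf_dvd_iff_pow_eq_one, Subgroup.orderOf_coe, hx]⟩
    rw [hbot, Subgroup.mem_bot] at hxN
    rw [← Subgroup.orderOf_coe, hxN, orderOf_one] at hx
    exact hp.one_lt.ne hx

/-- A finite solvable nontrivial group has a nontrivial normal abelian `p`-subgroup. -/
theorem exists_normal_pgroup [Finite G] [Group.IsSolvable G] [Nontrivial G] :
    ∃ (p : ℕ) (N : Subgroup G), p.Prime ∧ N.Normal ∧ N ≠ ⊥ ∧ IsPGroup p N := by
  obtain ⟨p, N, hp, hN, hne, -, hpow⟩ := exists_normal_elementaryAbelian (G := G)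
  exact ⟨p, N, hp, hN, hne, fun g => ⟨1, by
    rw [pow_one]; ext; exact hpow g g.2⟩⟩

/-- The intersection of two subgroups of coprime orders is trivial. -/
theorem inf_eq_bot_of_coprime {H K : Subgroup G} (h : (Nat.card H).Coprime (Nat.card K)) :
    H ⊓ K = ⊥ :=
  Subgroup.card_eq_one.mp (Nat.eq_one_of_dvd_coprimes h
    (Subgroup.card_dvd_of_le inf_le_left) (Subgroup.card_dvd_of_le inf_le_right))

/-- If `H` normalizes `N` then every element of `H ⊔ N` is a product. -/
theorem mem_sup_iff_of_le_normalizer {H N : Subgroup G}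
    (hH : H ≤ Subgroup.normalizer (N : Set G)) {x : G} :
    x ∈ H ⊔ N ↔ ∃ h ∈ H, ∃ n ∈ N, h * n = x := by
  rw [← SetLike.mem_coe, Subgroup.coe_mul_of_left_le_normalizer_right H N hH, Set.mem_mul]
  simp only [SetLike.mem_coe]

/-- `|HN| |H ∩ N| = |H| |N|` when `H` normalizes `N`. -/
theorem card_sup_mul_card_inf {H N : Subgroup G}
    (hH : H ≤ Subgroup.normalizer (N : Set G)) :
    Nat.card ↥(H ⊔ N) * Nat.card ↥(H ⊓ N) = Nat.card H * Nat.card N := by
  have hl : H ≤ Subgroup.normalizer (N : Set G) := hH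
  have := Subgroup.normal_subgroupOf_sup_of_le_normalizer hl
  have := Subgroup.normal_subgroupOf_of_le_normalizer hl
  have h1 : N.relIndex (H ⊔ N) = N.relIndex H :=
    (Nat.card_congr (QuotientGroup.quotientInfEquivProdNormalizerQuotient H N hl).toEquiv).symm
  have h2 : Nat.card N * N.relIndex (H ⊔ N) = Nat.card ↥(H ⊔ N) := by
    rw [← Subgroup.relIndex_bot_left, ← Subgroup.relIndex_bot_left,
      Subgroup.relIndex_mul_relIndex _ _ _ bot_le le_sup_right]
  have h3 : Nat.card ↥(H ⊓ N) * N.relIndex H = Nat.card H := by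
    rw [← Subgroup.inf_relIndex_right N H, inf_comm N H, ← Subgroup.relIndex_bot_left,
      ← Subgroup.relIndex_bot_left, Subgroup.relIndex_mul_relIndex _ _ _ bot_le inf_le_left]
  rw [← h2, h1, ← h3]
  ring

/-- `|HN| = |H| |N|` when `H` normalizes `N` and meets it trivially. -/
theorem card_sup_of_inf_eq_bot {H N : Subgroup G}
    (hH : H ≤ Subgroup.normalizer (N : Set G)) (h : H ⊓ N = ⊥) :
    Nat.card ↥(H ⊔ N) = Nat.card H * Nat.card N := by
  have := card_sup_mul_card_inf hH
  rwa [h, Subgroup.card_bot, mul_one] at this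

/-- `|HN|` divides `|H| |N|` when `H` normalizes `N`. -/
theorem card_sup_dvd {H N : Subgroup G} (hH : H ≤ Subgroup.normalizer (N : Set G)) :
    Nat.card ↥(H ⊔ N) ∣ Nat.card H * Nat.card N :=
  Dvd.intro _ (card_sup_mul_card_inf hH)

theorem conj_smul_eq_map (g : G) (H : Subgroup G) :
    MulAut.conj g • H = H.map (MulAut.conj g).toMonoidHom := rfl

theorem mem_conj_smul {g x : G} {H : Subgroup G} :
    x ∈ MulAut.conj g • H ↔ g⁻¹ * x * g ∈ H := by
  rw [Subgroup.mem_pointwise_smul_iff_inv_smul_mem, MulAut.smul_def, MulAut.conj_inv_apply]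

theorem card_conj_smul (g : G) (H : Subgroup G) :
    Nat.card ↥(MulAut.conj g • H) = Nat.card H :=
  (Nat.card_congr (Subgroup.equivSMul (MulAut.conj g) H).toEquiv).symm

theorem index_conj_smul [Finite G] (g : G) (H : Subgroup G) :
    (MulAut.conj g • H).index = H.index := by
  have h := (MulAut.conj g • H).card_mul_index
  rw [card_conj_smul, ← H.card_mul_index] at h
  exact Nat.eq_of_mul_eq_mul_left Nat.card_pos h

theorem conj_smul_le_iff {g : G} {H K : Subgroup G} :
    MulAut.conj g • H ≤ K ↔ ∀ h ∈ H, g * h * g⁻¹ ∈ K := by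
  constructor
  · intro hle h hh
    exact hle (by rw [mem_conj_smul]; simpa [mul_assoc] using hh)
  · intro hall x hx
    rw [mem_conj_smul] at hx
    simpa [mul_assoc] using hall _ hx

theorem conj_smul_eq_self_of_mem_normalizer {g : G} {H : Subgroup G}
    (hg : g ∈ Subgroup.normalizer (H : Set G)) : MulAut.conj g • H = H := by
  ext x
  rw [mem_conj_smul]
  exact (Subgroup.mem_normalizer_iff''.mp hg x).symm

theorem le_normalizer_conj_smul {g : G} {A H : Subgroup G}
    (h : A ≤ Subgroup.normalizer (H : Set G)) :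
    MulAut.conj g • A ≤ Subgroup.normalizer ((MulAut.conj g • H : Subgroup G) : Set G) := by
  intro x hx
  rw [mem_conj_smul] at hx
  rw [Subgroup.mem_normalizer_iff]
  intro y
  rw [mem_conj_smul, mem_conj_smul, Subgroup.mem_normalizer_iff.mp (h hx) (g⁻¹ * y * g)]
  group

theorem isPiSubgroup_mono {π : Set ℕ} {H K : Subgroup G} (h : H ≤ K)
    (hK : Cfsg.IsPiSubgroup π K) : Cfsg.IsPiSubgroup π H :=
  fun p hp hd => hK p hp (hd.trans (Subgroup.card_dvd_of_le h))

theorem isPiSubgroup_conj_smul {π : Set ℕ} {H : Subgroup G} (g : G)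
    (hH : Cfsg.IsPiSubgroup π H) : Cfsg.IsPiSubgroup π (MulAut.conj g • H) := by
  intro p hp hd
  rw [card_conj_smul] at hd
  exact hH p hp hd

/-- A number with all prime divisors in `π` is coprime to one with none in `π`. -/
theorem coprime_of_pi {π : Set ℕ} {m n : ℕ} (hm : ∀ p : ℕ, p.Prime → p ∣ m → p ∈ π)
    (hn : ∀ p : ℕ, p.Prime → p ∈ π → ¬ p ∣ n) : m.Coprime n :=
  Nat.coprime_of_dvd fun p hp hpm hpn => hn p hp (hm p hp hpm) hpn

theorem piHall_coprime {π : Set ℕ} {H : Subgroup G} (h : Cfsg.IsPiHall π H) :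
    (Nat.card H).Coprime H.index := coprime_of_pi h.1 h.2

theorem piHall_conj_smul [Finite G] {π : Set ℕ} {H : Subgroup G} (g : G)
    (hH : Cfsg.IsPiHall π H) : Cfsg.IsPiHall π (MulAut.conj g • H) :=
  ⟨fun p hp hd => hH.1 p hp (by rwa [card_conj_smul] at hd),
    fun p hp hπ => by rw [index_conj_smul]; exact hH.2 p hp hπ⟩

theorem piSubgroup_card_dvd_piHall {π : Set ℕ} {U H : Subgroup G}
    (hU : Cfsg.IsPiSubgroup π U) (hH : Cfsg.IsPiHall π H) : Nat.card U ∣ Nat.card H := by
  have h : Nat.card U ∣ Nat.card H * H.index := by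
    rw [H.card_mul_index]; exact Subgroup.card_subgroup_dvd_card U
  exact (coprime_of_pi hU hH.2).dvd_of_dvd_mul_right h

theorem piHall_card_eq {π : Set ℕ} {H K : Subgroup G}
    (hH : Cfsg.IsPiHall π H) (hK : Cfsg.IsPiHall π K) : Nat.card H = Nat.card K :=
  Nat.dvd_antisymm (piSubgroup_card_dvd_piHall hH.1 hK) (piSubgroup_card_dvd_piHall hK.1 hH)

theorem piHall_of_card_eq [Finite G] {π : Set ℕ} {H K : Subgroup G}
    (hH : Cfsg.IsPiHall π H) (h : Nat.card K = Nat.card H) : Cfsg.IsPiHall π K := by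
  refine ⟨fun p hp hd => hH.1 p hp (h ▸ hd), fun p hp hπ => ?_⟩
  have h1 := K.card_mul_index
  rw [h, ← H.card_mul_index] at h1
  rw [Nat.eq_of_mul_eq_mul_left Nat.card_pos h1]
  exact hH.2 p hp hπ

/-- A subgroup of coprime order and index is a Hall subgroup for the prime divisors of its
order. -/
theorem piHall_of_coprime_index {H : Subgroup G} (h : (Nat.card H).Coprime H.index) :
    Cfsg.IsPiHall {p | p ∣ Nat.card H} H :=
  ⟨fun _ _ hd => hd, fun _ hp hd hi => hp.ne_one (Nat.eq_one_of_dvd_coprimes h hd hi)⟩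

theorem piHall_eq_of_le [Finite G] {π : Set ℕ} {H K : Subgroup G}
    (hH : Cfsg.IsPiHall π H) (hK : Cfsg.IsPiSubgroup π K) (h : H ≤ K) : H = K :=
  Subgroup.eq_of_le_of_card_ge h
    (Nat.le_of_dvd Nat.card_pos (piSubgroup_card_dvd_piHall hK hH))

theorem card_map_mk' (N U : Subgroup G) [N.Normal] :
    Nat.card ↥(U.map (QuotientGroup.mk' N)) = N.relIndex U := by
  rw [← Subgroup.relIndex_bot_left, ← Subgroup.relIndex_comap, MonoidHom.comap_bot,
    QuotientGroup.ker_mk']

theorem isSolvable_of_le {H K : Subgroup G} (h : H ≤ K) (hK : Group.IsSolvable K) :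
    Group.IsSolvable H :=
  Group.isSolvable_of_isSolvable_injective (Subgroup.inclusion_injective h)

theorem isSolvable_map {G' : Type*} [Group G'] (f : G →* G') {H : Subgroup G}
    (hH : Group.IsSolvable H) : Group.IsSolvable (H.map f) :=
  Group.isSolvable_of_surjective (f.subgroupMap_surjective H)

theorem isSolvable_map_iff {G' : Type*} [Group G'] {f : G →* G'} (hf : Function.Injective f)
    {H : Subgroup G} : Group.IsSolvable (H.map f) ↔ Group.IsSolvable H := by
  refine ⟨fun h => ?_, isSolvable_map f⟩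
  exact Group.isSolvable_of_isSolvable_injective (f := (H.equivMapOfInjective f hf).toMonoidHom)
    (H.equivMapOfInjective f hf).injective

theorem isSolvable_subgroupOf {H : Subgroup G} (K : Subgroup G) (hH : Group.IsSolvable H) :
    Group.IsSolvable (H.subgroupOf K) := by
  refine (isSolvable_map_iff (K.subtype_injective)).mp ?_
  rw [Subgroup.subgroupOf_map_subtype]
  exact isSolvable_of_le inf_le_left hH

end CfsgLib.Coprime
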