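import Cfsg.Agent.Lib.Coprime.SchurZassenhaus
import Cfsg.Prelude.Def_Local

/-!
Hall's theorems: existence, conjugacy and containment for solvable and p-solvable groups, and
their extension steps.
-/

set_option autoImplicit false

open scoped Pointwise

namespace CfsgLib.Coprime

universe u

variable {G : Type u} [Group G]

/-- `G` has a Hall π-subgroup containing a conjugate of every π-subgroup. -/
def HallD (π : Set ℕ) (G : Type u) [Group G] : Prop :=
  ∃ H : Subgroup G, Cfsg.IsPiHall π H ∧
    ∀ U : Subgroup G, Cfsg.IsPiSubgroup π U → ∃ g : G, MulAut.conj g • U ≤ H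

theorem HallD.conj [Finite G] {π : Set ℕ} (h : HallD π G) {H K : Subgroup G}
    (hH : Cfsg.IsPiHall π H) (hK : Cfsg.IsPiHall π K) : ∃ g : G, MulAut.conj g • H = K := by
  obtain ⟨L, hL, hle⟩ := h
  obtain ⟨a, ha⟩ := hle H hH.1
  obtain ⟨b, hb⟩ := hle K hK.1
  have ha' := piHall_eq_of_le (piHall_conj_smul a hH) hL.1 ha
  have hb' := piHall_eq_of_le (piHall_conj_smul b hK) hL.1 hb
  exact ⟨b⁻¹ * a, by rw [map_mul, mul_smul, ha', ← hb', ← mul_smul, ← map_mul]; simp⟩

theorem HallD.exists_le [Finite G] {π : Set ℕ} (h : HallD π G) {U : Subgroup G}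
    (hU : Cfsg.IsPiSubgroup π U) : ∃ H : Subgroup G, Cfsg.IsPiHall π H ∧ U ≤ H := by
  obtain ⟨L, hL, hle⟩ := h
  obtain ⟨g, hg⟩ := hle U hU
  exact ⟨MulAut.conj g⁻¹ • L, piHall_conj_smul _ hL, by
    rw [map_inv]; exact Subgroup.subset_pointwise_smul_iff.mpr (by rw [inv_inv]; exact hg)⟩

theorem HallD.conj_le [Finite G] {π : Set ℕ} (h : HallD π G) {U H : Subgroup G}
    (hU : Cfsg.IsPiSubgroup π U) (hH : Cfsg.IsPiHall π H) :
    ∃ g : G, MulAut.conj g • U ≤ H := by
  obtain ⟨L, hL, hUL⟩ := h.exists_le hU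
  obtain ⟨g, hg⟩ := h.conj hL hH
  exact ⟨g, hg ▸ Subgroup.pointwise_smul_le_pointwise_smul_iff.mpr hUL⟩

theorem hallD_of_piGroup [Finite G] {π : Set ℕ}
    (h : ∀ p : ℕ, p.Prime → p ∣ Nat.card G → p ∈ π) : HallD π G := by
  refine ⟨⊤, ⟨fun p hp hd => h p hp (Subgroup.card_top (G := G) ▸ hd), fun p hp _ hd => ?_⟩,
    fun U _ => ⟨1, le_top⟩⟩
  rw [Subgroup.index_top] at hd
  exact hp.ne_one (Nat.dvd_one.mp hd)

theorem HallD.of_mulEquiv [Finite G] {G' : Type*} [Group G'] {π : Set ℕ} (e : G' ≃* G)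
    (h : HallD π G) : HallD π G' := by
  obtain ⟨H, hH, hle⟩ := h
  have hcard : ∀ L : Subgroup G, Nat.card (L.map e.symm.toMonoidHom) = Nat.card L := fun L =>
    (Nat.card_congr (e.symm.subgroupMap L).toEquiv).symm
  refine ⟨H.map e.symm.toMonoidHom, ⟨fun p hp hd => hH.1 p hp (hcard H ▸ hd), ?_⟩, fun U hU => ?_⟩
  · intro p hp hπ
    rw [show e.symm.toMonoidHom = (e.symm : G →* G') from rfl, Subgroup.index_map_equiv]
    exact hH.2 p hp hπ
  · have hU' : Cfsg.IsPiSubgroup π (U.map e.toMonoidHom) := fun p hp hd =>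
      hU p hp ((Nat.card_congr (e.subgroupMap U).toEquiv).symm ▸ hd)
    obtain ⟨g, hg⟩ := hle _ hU'
    refine ⟨e.symm g, ?_⟩
    have := Subgroup.map_mono (f := e.symm.toMonoidHom) hg
    rw [← conj_smul_map, Subgroup.map_map] at this
    simpa using this

/-- Extension by a normal π-group. -/
theorem hallD_of_piGroup_normal [Finite G] {π : Set ℕ} (N : Subgroup G) [N.Normal]
    (hN : Cfsg.IsPiSubgroup π N) (h : HallD π (G ⧸ N)) : HallD π G := by
  obtain ⟨H, hH, hle⟩ := h
  set f := QuotientGroup.mk' N with hf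
  have hsurj : Function.Surjective f := QuotientGroup.mk'_surjective N
  refine ⟨H.comap f, ⟨fun p hp hd => ?_, fun p hp hπ => ?_⟩, fun U hU => ?_⟩
  · have h1 : Nat.card (H.comap f) = Nat.card N * Nat.card H := by
      rw [← Subgroup.map_comap_eq_self_of_surjective hsurj H, hf, card_map_mk', ← hf,
        Subgroup.map_comap_eq_self_of_surjective hsurj H, ← Subgroup.relIndex_bot_left,
        ← Subgroup.relIndex_bot_left, Subgroup.relIndex_mul_relIndex _ _ _ bot_le]
      exact (QuotientGroup.ker_mk' N).symm.le.trans (MonoidHom.ker_le_comap _ _)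
    rw [h1] at hd
    exact (hp.dvd_mul.mp hd).elim (hN p hp) (hH.1 p hp)
  · rw [Subgroup.index_comap_of_surjective _ hsurj]
    exact hH.2 p hp hπ
  · obtain ⟨g', hg⟩ := hle (U.map f)
      (fun p hp hd => hU p hp (hd.trans (Subgroup.card_map_dvd U f)))
    obtain ⟨g, rfl⟩ := hsurj g'
    rw [conj_smul_map, Subgroup.map_le_iff_le_comap] at hg
    exact ⟨g, hg⟩

/-- Extension by a normal π'-group. -/
theorem hallD_of_piCompl_normal [Finite G] {π : Set ℕ} (N : Subgroup G) [N.Normal]
    (hN : ∀ p : ℕ, p.Prime → p ∣ Nat.card N → p ∉ π)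
    (hsolv : Group.IsSolvable N ∨ ∀ U : Subgroup G, Cfsg.IsPiSubgroup π U → Group.IsSolvable U)
    (h : HallD π (G ⧸ N)) : HallD π G := by
  obtain ⟨H, hH, hle⟩ := h
  set f := QuotientGroup.mk' N with hf
  have hsurj : Function.Surjective f := QuotientGroup.mk'_surjective N
  set L := H.comap f with hL
  have hNL : N ≤ L := (QuotientGroup.ker_mk' N).symm.le.trans (MonoidHom.ker_le_comap _ _)
  have hidx : (N.subgroupOf L).index = Nat.card H := by
    rw [← Subgroup.relIndex, ← card_map_mk', ← hf,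
      Subgroup.map_comap_eq_self_of_surjective hsurj H]
  have hcN : Nat.card (N.subgroupOf L) = Nat.card N :=
    Nat.card_congr (Subgroup.subgroupOfEquivOfLe hNL).toEquiv
  have hcop : (Nat.card N).Coprime (Nat.card H) :=
    Nat.coprime_of_dvd fun p hp h1 h2 => hN p hp h1 (hH.1 p hp h2)
  obtain ⟨C, hC⟩ := Subgroup.exists_right_complement'_of_coprime
    (N := N.subgroupOf L) (by rwa [hcN, hidx])
  set C' := C.map L.subtype with hC'
  have hcC : Nat.card C' = Nat.card H := by
    rw [hC', ← hidx, hC.symm.index_eq_card]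
    exact Nat.card_congr (C.equivMapOfInjective _ L.subtype_injective).toEquiv.symm
  have hsup : N ⊔ C' = L := by
    have h1 := congrArg (Subgroup.map L.subtype) hC.sup_eq_top
    rwa [Subgroup.map_sup, Subgroup.map_subgroupOf_eq_of_le hNL, ← MonoidHom.range_eq_map,
      Subgroup.range_subtype] at h1
  refine ⟨C', ⟨fun p hp hd => hH.1 p hp (hcC ▸ hd), fun p hp hπ hd => ?_⟩, fun U hU => ?_⟩
  · have e : Nat.card C' * C'.index = Nat.card H * (Nat.card N * H.index) := by
      rw [C'.card_mul_index, ← L.card_mul_index, hL, Subgroup.index_comap_of_surjective _ hsurj,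
        ← hL, ← (N.subgroupOf L).card_mul_index, hcN, hidx]
      ring
    rw [hcC] at e
    rw [Nat.eq_of_mul_eq_mul_left Nat.card_pos e] at hd
    exact (hp.dvd_mul.mp hd).elim (fun h' => hN p hp h' hπ) (hH.2 p hp hπ)
  · obtain ⟨g', hg⟩ := hle (U.map f)
      (fun p hp hd => hU p hp (hd.trans (Subgroup.card_map_dvd U f)))
    obtain ⟨g, rfl⟩ := hsurj g'
    rw [conj_smul_map, Subgroup.map_le_iff_le_comap, ← hL, ← hsup] at hg
    have hU' := isPiSubgroup_conj_smul g hU
    obtain ⟨a, -, ha⟩ := sz_conj_le (Subgroup.le_normalizer_of_normal (H := N)) hg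
      (by rwa [hcC]) (coprime_of_pi hU' (fun p hp hπ hd => hN p hp hd hπ)).symm
      (hsolv.imp id fun h' => h' _ hU')
    exact ⟨a * g, by rw [map_mul, mul_smul]; exact ha⟩

/-- Extension by a solvable normal subgroup: one step on a normal `p`-subgroup. -/
theorem hallD_of_pgroup_normal [Finite G] {π : Set ℕ} {p : ℕ} (hp : p.Prime) (N : Subgroup G)
    [N.Normal] (hN : IsPGroup p N) (h : HallD π (G ⧸ N)) : HallD π G := by
  have := Fact.mk hp
  have hq : ∀ q : ℕ, q.Prime → q ∣ Nat.card N → q = p := by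
    intro q hq' hd
    obtain ⟨k, hk⟩ := IsPGroup.iff_card.mp hN
    exact (Nat.prime_dvd_prime_iff_eq hq' hp).mp (hq'.dvd_of_dvd_pow (hk ▸ hd))
  by_cases hπ : p ∈ π
  · exact hallD_of_piGroup_normal N (fun q hq' hd => hq q hq' hd ▸ hπ) h
  · refine hallD_of_piCompl_normal N (fun q hq' hd => hq q hq' hd ▸ hπ) (Or.inl ?_) h
    have := hN.isNilpotent
    exact inferInstance

theorem hallD_of_solvable_normal_aux (π : Set ℕ) (n : ℕ) : ∀ {G : Type u} [Group G] [Finite G],
    Nat.card G ≤ n → ∀ (N : Subgroup G) [N.Normal], Group.IsSolvable N → HallD π (G ⧸ N) →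
    HallD π G := by
  induction n with
  | zero =>
    intro G _ _ hG
    exact absurd hG (Nat.not_le.mpr Nat.card_pos)
  | succ n ih =>
    intro G _ _ hG N _ hN h
    rcases eq_or_ne N ⊥ with rfl | hne
    · exact HallD.of_mulEquiv (QuotientGroup.quotientBot (G := G)).symm h
    have : Nontrivial N := (Subgroup.nontrivial_iff_ne_bot N).mpr hne
    classical
    -- a nontrivial normal `p`-subgroup of `G` inside `N`
    obtain ⟨p, M, hp, hMn, hMne, hMle, hMp⟩ : ∃ (p : ℕ) (M : Subgroup G),
        p.Prime ∧ M.Normal ∧ M ≠ ⊥ ∧ M ≤ N ∧ IsPGroup p M := by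
      obtain ⟨p, A, hp, hA, hAne, hAp⟩ := exists_normal_pgroup (G := N)
      have hle : A ≤ sSup {B : Subgroup N | B.Normal ∧ IsPGroup p B} := le_sSup ⟨hA, hAp⟩
      set O := sSup {B : Subgroup N | B.Normal ∧ IsPGroup p B} with hO
      have hOp : IsPGroup p O := by
        have : ∀ s : Finset (Subgroup N), (∀ B ∈ s, B.Normal ∧ IsPGroup p B) →
            (s.sup id).Normal ∧ IsPGroup p ↥(s.sup id) := by
          intro s
          induction s using Finset.induction with
          | empty =>
            intro _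
            exact ⟨by rw [Finset.sup_empty]; infer_instance,
              by rw [Finset.sup_empty]; exact IsPGroup.of_bot⟩
          | insert B s _ ihs =>
            intro hs
            obtain ⟨h1, h2⟩ := ihs fun C hC => hs C (Finset.mem_insert_of_mem hC)
            obtain ⟨h3, h4⟩ := hs B (Finset.mem_insert_self B s)
            rw [Finset.sup_insert, id]
            exact ⟨Subgroup.sup_normal B (s.sup id),
              h4.to_sup_of_normal_left h2⟩
        obtain ⟨hs1, hs2⟩ := this (Set.toFinite {B : Subgroup N | B.Normal ∧ IsPGroup p B}).toFinset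
          (fun B hB => by simpa using hB)
        rwa [hO, ← Set.Finite.coe_toFinset (Set.toFinite {B : Subgroup N | B.Normal ∧ IsPGroup p B}),
          ← Finset.sup_id_eq_sSup]
      have : O.Characteristic := by
        rw [Subgroup.characteristic_iff_le_comap]
        intro φ
        rw [hO]
        refine sSup_le fun B hB => ?_
        rw [← Subgroup.map_le_iff_le_comap]
        exact le_sSup ⟨hB.1.map _ φ.surjective, hB.2.map _⟩
      exact ⟨p, O.map N.subtype, hp, inferInstance,
        fun h0 => hAne (le_bot_iff.mp (hle.trans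
          ((Subgroup.map_eq_bot_iff _).mp h0 |>.trans N.ker_subtype.le))),
        Subgroup.map_subtype_le O, hOp.map _⟩
    set f := QuotientGroup.mk' M with hf
    have hlt : Nat.card (G ⧸ M) ≤ n := Nat.lt_succ_iff.mp ((card_quotient_lt hMne).trans_le hG)
    have hsol : Group.IsSolvable (N.map f) := isSolvable_map f hN
    exact hallD_of_pgroup_normal hp M hMp (ih hlt (N.map f) hsol
      (HallD.of_mulEquiv (QuotientGroup.quotientQuotientEquivQuotient M N hMle) h))

/-- Extension by a solvable normal subgroup. -/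
theorem hallD_of_solvable_normal [Finite G] {π : Set ℕ} (N : Subgroup G) [N.Normal]
    (hN : Group.IsSolvable N) (h : HallD π (G ⧸ N)) : HallD π G :=
  hallD_of_solvable_normal_aux π _ le_rfl N hN h

/-- Hall's theorem for finite solvable groups. -/
theorem hallD_of_solvable [Finite G] [Group.IsSolvable G] (π : Set ℕ) : HallD π G := by
  refine hallD_of_solvable_normal ⊤ inferInstance (hallD_of_piGroup fun p hp hd => ?_)
  rw [← Subgroup.index_eq_card, Subgroup.index_top] at hd
  exact absurd (Nat.dvd_one.mp hd) hp.ne_one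

theorem relIndex_map_dvd {G' : Type*} [Group G'] (f : G →* G')
    (A B : Subgroup G) : (A.map f).relIndex (B.map f) ∣ A.relIndex B := by
  rw [← Subgroup.relIndex_comap, Subgroup.comap_map_eq]
  exact Subgroup.relIndex_dvd_of_le_left B le_sup_left

/-- A nontrivial p-solvable group has a nontrivial normal subgroup that is a `p`-group or a
`p'`-group, with p-solvable quotient. -/
theorem pSolvable_step [Finite G] [Nontrivial G] {p : ℕ} (hG : Cfsg.IsPSolvable p G) :
    ∃ N : Subgroup G, N.Normal ∧ N ≠ ⊥ ∧ (IsPGroup p N ∨ (Nat.card N).Coprime p) := by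
  classical
  obtain ⟨n, H, h0, hn, -, hnormal, hstep⟩ := hG
  have hex : ∃ i : Fin n, H i.castSucc = ⊥ ∧ H i.succ ≠ ⊥ := by
    by_contra hcon
    simp only [not_exists, not_and, not_not] at hcon
    have : ∀ i : Fin (n + 1), H i = ⊥ := by
      intro i
      induction i using Fin.induction with
      | zero => exact h0
      | succ i ih => exact hcon i ih
    exact (top_ne_bot : (⊤ : Subgroup G) ≠ ⊥) (hn ▸ this _)
  obtain ⟨i, hi, hi'⟩ := hex
  have h := hstep i
  rw [hi, Subgroup.relIndex_bot_left] at h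
  exact ⟨_, hnormal i.succ, hi', h.imp (fun ⟨m, hm⟩ => IsPGroup.of_card hm) id⟩

theorem pSolvable_quotient [Finite G] {p : ℕ} [Fact p.Prime] (hG : Cfsg.IsPSolvable p G)
    (N : Subgroup G) [N.Normal] : Cfsg.IsPSolvable p (G ⧸ N) := by
  obtain ⟨n, H, h0, hn, hmono, hnormal, hstep⟩ := hG
  set f := QuotientGroup.mk' N with hf
  have hsurj : Function.Surjective f := QuotientGroup.mk'_surjective N
  refine ⟨n, fun i => (H i).map f, by simp [h0], ?_, fun i j hij => Subgroup.map_mono (hmono hij),
    fun i => (hnormal i).map f hsurj, fun i => ?_⟩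
  · simp only [hn, Subgroup.map_top_of_surjective f hsurj]
  · have hd := relIndex_map_dvd f (H i.castSucc) (H i.succ)
    rcases hstep i with ⟨m, hm⟩ | hc
    · rw [hm] at hd
      obtain ⟨k, -, hk⟩ := (Nat.dvd_prime_pow Fact.out).mp hd
      exact Or.inl ⟨k, hk⟩
    · exact Or.inr (hc.coprime_dvd_left hd)

theorem hallD_of_pSolvable_aux {p : ℕ} [hp : Fact p.Prime] {π : Set ℕ}
    (hπ : π = {p} ∨ π = {p}ᶜ) (n : ℕ) : ∀ {G : Type u} [Group G] [Finite G],
    Nat.card G ≤ n → Cfsg.IsPSolvable p G → HallD π G := by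
  induction n with
  | zero =>
    intro G _ _ hG
    exact absurd hG (Nat.not_le.mpr Nat.card_pos)
  | succ n ih =>
    intro G _ _ hG hps
    rcases subsingleton_or_nontrivial G with hs | hs
    · exact hallD_of_piGroup fun q hq hd =>
        absurd (Nat.dvd_one.mp (Nat.card_unique (α := G) ▸ hd)) hq.ne_one
    obtain ⟨N, hNn, hNne, hN⟩ := pSolvable_step hps
    have hlt : Nat.card (G ⧸ N) ≤ n := Nat.lt_succ_iff.mp ((card_quotient_lt hNne).trans_le hG)
    have hq := ih hlt (pSolvable_quotient hps N)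
    rcases hN with hN | hN
    · exact hallD_of_pgroup_normal hp.out N hN hq
    · have hne : ∀ q : ℕ, q.Prime → q ∣ Nat.card N → q ≠ p := by
        rintro q hq' hd rfl
        exact hq'.ne_one (Nat.eq_one_of_dvd_coprimes hN hd dvd_rfl)
      rcases hπ with rfl | rfl
      · refine hallD_of_piCompl_normal N (fun q hq' hd => hne q hq' hd) (Or.inr fun U hU => ?_) hq
        have hUp : IsPGroup p U := IsPGroup.of_card (n := (Nat.card U).primeFactorsList.length)
          (Nat.eq_prime_pow_of_unique_prime_dvd Nat.card_pos.ne'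
            fun {d} hd hdvd => by simpa using hU d hd hdvd)
        have := hUp.isNilpotent
        exact inferInstance
      · exact hallD_of_piGroup_normal N (fun q hq' hd => hne q hq' hd) hq

/-- p-solvable groups have Hall `p'`-subgroups, conjugate and containing every `p'`-subgroup up to
conjugacy. -/
theorem hallD_compl_of_pSolvable [Finite G] {p : ℕ} [Fact p.Prime] (hG : Cfsg.IsPSolvable p G) :
    HallD {p}ᶜ G :=
  hallD_of_pSolvable_aux (Or.inr rfl) _ le_rfl hG

theorem piSubgroup_compl_iff {p : ℕ} (hp : p.Prime) {U : Subgroup G} :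
    Cfsg.IsPiSubgroup {p}ᶜ U ↔ (Nat.card U).Coprime p := by
  constructor
  · intro h
    exact ((Nat.Prime.coprime_iff_not_dvd hp).mpr fun hd => h p hp hd rfl).symm
  · rintro h q hq hd (rfl : q = p)
    exact hq.ne_one (Nat.eq_one_of_dvd_coprimes h hd dvd_rfl)

theorem piHall_compl_iff [Finite G] {p : ℕ} (hp : p.Prime) {H : Subgroup G} :
    Cfsg.IsPiHall {p}ᶜ H ↔ (Nat.card H).Coprime p ∧ ∃ n : ℕ, H.index = p ^ n := by
  constructor
  · intro h
    refine ⟨(piSubgroup_compl_iff hp).mp h.1, _,
      Nat.eq_prime_pow_of_unique_prime_dvd Subgroup.index_ne_zero_of_finite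
        fun {d} hd hdvd => ?_⟩
    by_contra hne
    exact h.2 d hd hne hdvd
  · rintro ⟨h1, n, hn⟩
    refine ⟨(piSubgroup_compl_iff hp).mpr h1, fun q hq hne hd => hne ?_⟩
    rw [hn] at hd
    exact (Nat.prime_dvd_prime_iff_eq hq hp).mp (hq.dvd_of_dvd_pow hd)

/-- In a group of order `m * n`, `m` prime to `n`, the Hall subgroups for the primes of `m` are
the subgroups of order `m`. -/
theorem piHall_iff_card_eq [Finite G] {m n : ℕ} (hG : Nat.card G = m * n) (hmn : m.Coprime n)
    (L : Subgroup G) : Nat.card L = m ↔ Cfsg.IsPiHall {p | p ∣ m} L := by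
  have hL : Nat.card L * L.index = m * n := L.card_mul_index.trans hG
  constructor
  · intro h
    rw [h] at hL
    have hm : 0 < m := h ▸ Nat.card_pos
    rw [← Nat.eq_of_mul_eq_mul_left hm hL] at hmn
    rw [← h] at hmn ⊢
    exact piHall_of_coprime_index hmn
  · intro h
    apply Nat.dvd_antisymm
    · have hd : Nat.card L ∣ m * n := Dvd.intro _ hL
      refine (Nat.coprime_of_dvd fun p hp h1 h2 => ?_).dvd_of_dvd_mul_right hd
      exact hp.ne_one (Nat.eq_one_of_dvd_coprimes hmn (h.1 p hp h1) h2)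
    · have hd : m ∣ Nat.card L * L.index := Dvd.intro _ hL.symm
      exact (Nat.coprime_of_dvd fun p hp h1 h2 => h.2 p hp h1 h2).dvd_of_dvd_mul_right hd

theorem piHall_of_coprime_relIndex {H L : Subgroup G} (hHL : H ≤ L)
    (h : (Nat.card H).Coprime (H.relIndex L)) :
    Cfsg.IsPiHall {p | p ∣ Nat.card H} (H.subgroupOf L) := by
  have hc := Nat.card_congr (Subgroup.subgroupOfEquivOfLe hHL).toEquiv
  have := piHall_of_coprime_index (H := H.subgroupOf L) (by rw [hc]; exact h)
  rwa [hc] at this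

/-- The generalised Frattini argument. -/
theorem sup_normalizer_eq_top_of_conj {L H : Subgroup G} [L.Normal]
    (h : ∀ g : G, ∃ l ∈ L, MulAut.conj l • H = MulAut.conj g • H) :
    L ⊔ Subgroup.normalizer (H : Set G) = ⊤ := by
  rw [eq_top_iff]
  intro g _
  obtain ⟨l, hl, hlg⟩ := h g
  have hfix : MulAut.conj (l⁻¹ * g) • H = H := by
    rw [map_mul, mul_smul, ← hlg, ← mul_smul, ← map_mul, inv_mul_cancel, map_one, one_smul]
  have hn : l⁻¹ * g ∈ Subgroup.normalizer (H : Set G) := by
    rw [Subgroup.mem_normalizer_iff]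
    intro x
    conv_rhs => rw [← hfix, mem_conj_smul]
    group
  have := Subgroup.mul_mem_sup hl hn
  rwa [mul_inv_cancel_left] at this

/-- Frattini argument for Hall subgroups of a normal subgroup satisfying Hall's theorem. -/
theorem HallD.frattini [Finite G] {π : Set ℕ} {L H : Subgroup G} [L.Normal]
    (h : HallD π L) (hHL : H ≤ L) (hH : Cfsg.IsPiHall π (H.subgroupOf L)) :
    L ⊔ Subgroup.normalizer (H : Set G) = ⊤ := by
  refine sup_normalizer_eq_top_of_conj fun g => ?_
  have hgL : MulAut.conj g • H ≤ L := by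
    rw [conj_smul_le_iff]
    exact fun x hx => ‹L.Normal›.conj_mem x (hHL hx) g
  have hg : Cfsg.IsPiHall π ((MulAut.conj g • H).subgroupOf L) := by
    refine piHall_of_card_eq hH ?_
    rw [Nat.card_congr (Subgroup.subgroupOfEquivOfLe hgL).toEquiv, card_conj_smul,
      Nat.card_congr (Subgroup.subgroupOfEquivOfLe hHL).toEquiv]
  obtain ⟨l, hl⟩ := h.conj hH hg
  refine ⟨l, l.2, ?_⟩
  have h' := conj_smul_map L.subtype l (H.subgroupOf L)
  rw [hl, Subgroup.map_subgroupOf_eq_of_le hHL, Subgroup.map_subgroupOf_eq_of_le hgL] at h'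
  exact h'

end CfsgLib.Coprime
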