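import Cfsg.Agent.Lib.Coprime.Hall

/-!
Coprime action inside an ambient group: `A` normalizes `K`, `(|A|, |K|) = 1`, one of them solvable.
-/

set_option autoImplicit false

open scoped Pointwise commutatorElement

namespace CfsgLib.Coprime

universe u

variable {G : Type u} [Group G]

theorem mem_normalizer_iff_conj_smul {g : G} {H : Subgroup G} :
    g ∈ Subgroup.normalizer (H : Set G) ↔ MulAut.conj g • H = H := by
  refine ⟨conj_smul_eq_self_of_mem_normalizer, fun h => ?_⟩
  rw [Subgroup.mem_normalizer_iff]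
  intro x
  conv_rhs => rw [← h, mem_conj_smul]
  group

theorem le_normalizer_iff_conj_smul {A H : Subgroup G} :
    A ≤ Subgroup.normalizer (H : Set G) ↔ ∀ a ∈ A, MulAut.conj a • H = H :=
  ⟨fun h _ ha => conj_smul_eq_self_of_mem_normalizer (h ha),
    fun h a ha => mem_normalizer_iff_conj_smul.mpr (h a ha)⟩

theorem le_normalizer_inf_inf {A H K : Subgroup G} (h1 : A ≤ Subgroup.normalizer (H : Set G))
    (h2 : A ≤ Subgroup.normalizer (K : Set G)) :
    A ≤ Subgroup.normalizer ((H ⊓ K : Subgroup G) : Set G) := by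
  rw [le_normalizer_iff_conj_smul] at *
  intro a ha
  rw [Subgroup.smul_inf, h1 a ha, h2 a ha]

theorem le_normalizer_sup_sup {A H K : Subgroup G} (h1 : A ≤ Subgroup.normalizer (H : Set G))
    (h2 : A ≤ Subgroup.normalizer (K : Set G)) :
    A ≤ Subgroup.normalizer ((H ⊔ K : Subgroup G) : Set G) := by
  rw [le_normalizer_iff_conj_smul] at *
  intro a ha
  rw [Subgroup.smul_sup, h1 a ha, h2 a ha]

theorem le_normalizer_centralizer {A B : Subgroup G} (h : A ≤ Subgroup.normalizer (B : Set G)) :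
    A ≤ Subgroup.normalizer ((Subgroup.centralizer (B : Set G) : Subgroup G) : Set G) := by
  intro a ha
  rw [Subgroup.mem_normalizer_iff]
  intro x
  simp only [Subgroup.mem_centralizer_iff, SetLike.mem_coe]
  constructor
  · intro hx b hb
    have := hx _ (Subgroup.mem_normalizer_iff''.mp (h ha) b |>.mp hb)
    calc b * (a * x * a⁻¹) = a * (a⁻¹ * b * a * x) * a⁻¹ := by group
      _ = a * (x * (a⁻¹ * b * a)) * a⁻¹ := by rw [this]
      _ = a * x * a⁻¹ * b := by group
  · intro hx b hb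
    have := hx _ (Subgroup.mem_normalizer_iff.mp (h ha) b |>.mp hb)
    calc b * x = a⁻¹ * (a * b * a⁻¹ * (a * x * a⁻¹)) * a := by group
      _ = a⁻¹ * (a * x * a⁻¹ * (a * b * a⁻¹)) * a := by rw [this]
      _ = x * b := by group

theorem le_normalizer_inf_centralizer {A K : Subgroup G}
    (hAK : A ≤ Subgroup.normalizer (K : Set G)) :
    A ≤ Subgroup.normalizer ((K ⊓ Subgroup.centralizer (A : Set G) : Subgroup G) : Set G) :=
  le_normalizer_inf_inf hAK (le_normalizer_centralizer Subgroup.le_normalizer)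

/-- A normalized subgroup of coprime order and index inside `S` has a complement in `S`. -/
theorem exists_complement_in [Finite G] {N S : Subgroup G} (hNS : N ≤ S)
    (hS : S ≤ Subgroup.normalizer (N : Set G)) (hcop : (Nat.card N).Coprime (N.relIndex S)) :
    ∃ B : Subgroup G, B ≤ S ∧ Nat.card B = N.relIndex S ∧ N ⊔ B = S := by
  have : (N.subgroupOf S).Normal := Subgroup.normal_subgroupOf_of_le_normalizer hS
  have hcN : Nat.card (N.subgroupOf S) = Nat.card N :=
    Nat.card_congr (Subgroup.subgroupOfEquivOfLe hNS).toEquiv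
  obtain ⟨C, hC⟩ := Subgroup.exists_right_complement'_of_coprime (N := N.subgroupOf S)
    (by rw [hcN]; exact hcop)
  refine ⟨C.map S.subtype, Subgroup.map_subtype_le C, ?_, ?_⟩
  · rw [← Nat.card_congr (C.equivMapOfInjective _ S.subtype_injective).toEquiv,
      ← hC.symm.index_eq_card]
    rfl
  · have h1 := congrArg (Subgroup.map S.subtype) hC.sup_eq_top
    rwa [Subgroup.map_sup, Subgroup.map_subgroupOf_eq_of_le hNS, ← MonoidHom.range_eq_map,
      Subgroup.range_subtype] at h1

/-- A coset of an `A`-invariant subgroup `N` of coprime order that is fixed by `A` contains an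
element centralized by `A`. -/
theorem exists_centralizing_in_coset [Finite G] {A N : Subgroup G}
    (hAN : A ≤ Subgroup.normalizer (N : Set G)) (hcop : (Nat.card A).Coprime (Nat.card N))
    (hsolv : Group.IsSolvable A ∨ Group.IsSolvable N) {k : G}
    (hfix : ∀ a ∈ A, k⁻¹ * (a * k * a⁻¹) ∈ N) :
    ∃ c ∈ Subgroup.centralizer (A : Set G), k⁻¹ * c ∈ N := by
  have hle : MulAut.conj k⁻¹ • A ≤ N ⊔ A := by
    rw [conj_smul_le_iff]
    intro a ha
    have h := Subgroup.mul_mem_sup (hfix a ha) ha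
    rwa [show k⁻¹ * (a * k * a⁻¹) * a = k⁻¹ * a * k⁻¹⁻¹ by group] at h
  obtain ⟨n, hn, hconj⟩ := sz_conj_rel hAN (hle.trans (sup_le Subgroup.le_normalizer hAN))
    hcop.symm (card_conj_smul k⁻¹ A) hle hsolv.symm
  refine ⟨k * n, ?_, by simpa using hn⟩
  have hfixA : MulAut.conj (k * n) • A = A := by
    rw [map_mul, mul_smul, hconj, ← mul_smul, ← map_mul, mul_inv_cancel, map_one, one_smul]
  rw [Subgroup.mem_centralizer_iff]
  intro a ha
  have ha' : k * n * a * (k * n)⁻¹ ∈ A :=
    conj_smul_le_iff.mp hfixA.le a ha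
  set a' := k * n * a * (k * n)⁻¹ with ha'def
  have h1 : a * (a'⁻¹ : G) ∈ N := by
    have e : a * a'⁻¹ = (n * a * n⁻¹ * a⁻¹)⁻¹ * (k⁻¹ * (a' * k * a'⁻¹)) := by
      rw [ha'def]; group
    rw [e]
    have hn' : n * a * n⁻¹ * a⁻¹ ∈ N := by
      have := N.mul_mem hn ((Subgroup.mem_normalizer_iff.mp (hAN ha) n⁻¹).mp (N.inv_mem hn))
      simpa [mul_assoc] using this
    exact N.mul_mem (N.inv_mem hn') (hfix a' ha')
  have h2 : a * (a'⁻¹ : G) ∈ A ⊓ N := ⟨A.mul_mem ha (A.inv_mem ha'), h1⟩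
  rw [inf_eq_bot_of_coprime hcop, Subgroup.mem_bot, mul_inv_eq_one] at h2
  calc a * (k * n) = a' * (k * n) := by rw [← h2]
    _ = k * n * a := by rw [ha'def]; group

/-- Glauberman's lemma, existence: if the `K`-orbit of `x` is `A`-invariant, some point of it is
fixed by `A`. -/
theorem exists_fixed_point [Finite G] {X : Type*} [MulAction G X] {A K : Subgroup G}
    (hAK : A ≤ Subgroup.normalizer (K : Set G)) (hcop : (Nat.card A).Coprime (Nat.card K))
    (hsolv : Group.IsSolvable A ∨ Group.IsSolvable K) (x : X)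
    (hx : ∀ a ∈ A, ∃ k ∈ K, k • x = a • x) :
    ∃ k ∈ K, ∀ a ∈ A, a • k • x = k • x := by
  set N := MulAction.stabilizer G x ⊓ K with hN
  set S := MulAction.stabilizer G x ⊓ (A ⊔ K) with hS
  have hLK : A ⊔ K ≤ Subgroup.normalizer (K : Set G) := sup_le hAK Subgroup.le_normalizer
  have hSK : S ≤ Subgroup.normalizer (K : Set G) := inf_le_right.trans hLK
  have hNS : N ≤ S := inf_le_inf_left _ le_sup_right
  have hSN : S ≤ Subgroup.normalizer (N : Set G) :=
    le_normalizer_inf_inf (inf_le_left.trans Subgroup.le_normalizer) hSK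
  have hsup : S ⊔ K = A ⊔ K := by
    refine le_antisymm (sup_le inf_le_right le_sup_right) (sup_le (fun a ha => ?_) le_sup_right)
    obtain ⟨k, hk, hka⟩ := hx a ha
    have hmem : k⁻¹ * a ∈ S := ⟨MulAction.mem_stabilizer_iff.mpr (by
      rw [mul_smul, ← hka, inv_smul_smul]),
      (A ⊔ K).mul_mem (Subgroup.mem_sup_right (K.inv_mem hk)) (Subgroup.mem_sup_left ha)⟩
    have := Subgroup.mul_mem _ (Subgroup.mem_sup_right (S := S) hk) (Subgroup.mem_sup_left hmem)
    rwa [mul_inv_cancel_left] at this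
  have hcard : N.relIndex S = Nat.card A := by
    have h1 := card_sup_mul_card_inf hSK
    have hinf : S ⊓ K = N := by
      rw [hS, hN, inf_assoc, inf_eq_right.mpr (le_sup_right : K ≤ A ⊔ K)]
    rw [hsup, hinf, card_sup_of_inf_eq_bot hAK (inf_eq_bot_of_coprime hcop)] at h1
    have h2 : Nat.card N * N.relIndex S = Nat.card S := by
      rw [← Subgroup.relIndex_bot_left, ← Subgroup.relIndex_bot_left,
        Subgroup.relIndex_mul_relIndex _ _ _ bot_le hNS]
    rw [← h2] at h1
    refine Nat.eq_of_mul_eq_mul_left (Nat.mul_pos (Nat.card_pos (α := N)) (Nat.card_pos (α := K))) ?_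
    linarith
  obtain ⟨B, hBS, hB, -⟩ := exists_complement_in hNS hSN
    (by rw [hcard]; exact (hcop.coprime_dvd_right (Subgroup.card_dvd_of_le inf_le_right)).symm)
  rw [hcard] at hB
  have hBle : B ≤ K ⊔ A := sup_comm A K ▸ hBS.trans inf_le_right
  obtain ⟨k, hk, hkB⟩ := sz_conj_rel hAK (hBS.trans hSK) hcop.symm hB hBle hsolv.symm
  refine ⟨k⁻¹, K.inv_mem hk, fun a ha => ?_⟩
  have hmem : k * a * k⁻¹ ∈ B := conj_smul_le_iff.mp hkB.le a ha
  have h := MulAction.mem_stabilizer_iff.mp (hBS hmem).1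
  rw [mul_smul, mul_smul] at h
  exact eq_inv_smul_iff.mpr h

/-- Glauberman's lemma, conjugacy: two `A`-fixed points in one `K`-orbit are moved to each other by
an element of `C_K(A)`. -/
theorem exists_centralizing_smul_eq [Finite G] {X : Type*} [MulAction G X] {A K : Subgroup G}
    (hAK : A ≤ Subgroup.normalizer (K : Set G)) (hcop : (Nat.card A).Coprime (Nat.card K))
    (hsolv : Group.IsSolvable A ∨ Group.IsSolvable K) {x y : X}
    (hx : ∀ a ∈ A, a • x = x) (hy : ∀ a ∈ A, a • y = y) (hxy : ∃ k ∈ K, k • x = y) :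
    ∃ c ∈ K ⊓ Subgroup.centralizer (A : Set G), c • x = y := by
  obtain ⟨k, hk, hkx⟩ := hxy
  set N := MulAction.stabilizer G x ⊓ K with hN
  have hAN : A ≤ Subgroup.normalizer (N : Set G) :=
    le_normalizer_inf_inf (le_trans (show A ≤ MulAction.stabilizer G x from
      fun a ha => MulAction.mem_stabilizer_iff.mpr (hx a ha)) Subgroup.le_normalizer) hAK
  have hfix : ∀ a ∈ A, k⁻¹ * (a * k * a⁻¹) ∈ N := by
    intro a ha
    refine ⟨MulAction.mem_stabilizer_iff.mpr ?_,
      K.mul_mem (K.inv_mem hk) ((Subgroup.mem_normalizer_iff.mp (hAK ha) k).mp hk)⟩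
    rw [mul_smul, mul_smul, mul_smul, hx _ (A.inv_mem ha), hkx,
      hy a ha, ← hkx, inv_smul_smul]
  obtain ⟨c, hc, hck⟩ := exists_centralizing_in_coset hAN
    (hcop.coprime_dvd_right (Subgroup.card_dvd_of_le inf_le_right))
    (hsolv.imp id (isSolvable_of_le inf_le_right)) hfix
  refine ⟨c, ⟨?_, hc⟩, ?_⟩
  · simpa using K.mul_mem hk hck.2
  · have h := MulAction.mem_stabilizer_iff.mp hck.1
    rwa [mul_smul, inv_smul_eq_iff, hkx] at h

/-- If the `K`-class of `P` is `A`-invariant, some member is normalized by `A`. -/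
theorem exists_normalized_conj [Finite G] {A K : Subgroup G}
    (hAK : A ≤ Subgroup.normalizer (K : Set G)) (hcop : (Nat.card A).Coprime (Nat.card K))
    (hsolv : Group.IsSolvable A ∨ Group.IsSolvable K) (P : Subgroup G)
    (hP : ∀ a ∈ A, ∃ k ∈ K, MulAut.conj k • P = MulAut.conj a • P) :
    ∃ k ∈ K, A ≤ Subgroup.normalizer ((MulAut.conj k • P : Subgroup G) : Set G) := by
  let : MulAction G (Subgroup G) := MulAction.compHom _ (MulAut.conj : G →* MulAut G)
  obtain ⟨k, hk, h⟩ := exists_fixed_point hAK hcop hsolv P hP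
  exact ⟨k, hk, le_normalizer_iff_conj_smul.mpr h⟩

/-- Two `A`-invariant `K`-conjugate subgroups are conjugate under `C_K(A)`. -/
theorem exists_centralizing_conj_eq [Finite G] {A K : Subgroup G}
    (hAK : A ≤ Subgroup.normalizer (K : Set G)) (hcop : (Nat.card A).Coprime (Nat.card K))
    (hsolv : Group.IsSolvable A ∨ Group.IsSolvable K) {P Q : Subgroup G}
    (hP : A ≤ Subgroup.normalizer (P : Set G)) (hQ : A ≤ Subgroup.normalizer (Q : Set G))
    (hPQ : ∃ k ∈ K, MulAut.conj k • P = Q) :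
    ∃ c ∈ K ⊓ Subgroup.centralizer (A : Set G), MulAut.conj c • P = Q := by
  let : MulAction G (Subgroup G) := MulAction.compHom _ (MulAut.conj : G →* MulAut G)
  exact exists_centralizing_smul_eq hAK hcop hsolv (x := P) (y := Q)
    (le_normalizer_iff_conj_smul.mp hP) (le_normalizer_iff_conj_smul.mp hQ) hPQ

theorem piHallOf_iff {π : Set ℕ} {H K : Subgroup G} :
    Cfsg.IsPiHallOf π H K ↔ H ≤ K ∧ Cfsg.IsPiHall π (H.subgroupOf K) := by
  constructor
  · rintro ⟨h, h1, h2⟩
    refine ⟨h, fun p hp hd => h1 p hp ?_, h2⟩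
    rwa [Nat.card_congr (Subgroup.subgroupOfEquivOfLe h).toEquiv] at hd
  · rintro ⟨h, h1, h2⟩
    refine ⟨h, fun p hp hd => h1 p hp ?_, h2⟩
    rwa [Nat.card_congr (Subgroup.subgroupOfEquivOfLe h).toEquiv]

theorem piHallOf_map_subtype {π : Set ℕ} {K : Subgroup G} {H : Subgroup K}
    (h : Cfsg.IsPiHall π H) : Cfsg.IsPiHallOf π (H.map K.subtype) K :=
  piHallOf_iff.mpr ⟨Subgroup.map_subtype_le H, by
    rwa [← Subgroup.comap_subtype, Subgroup.comap_map_eq_self_of_injective K.subtype_injective]⟩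

theorem piHallOf_conj_smul [Finite G] {π : Set ℕ} {H K : Subgroup G} {g : G}
    (hg : g ∈ Subgroup.normalizer (K : Set G)) (h : Cfsg.IsPiHallOf π H K) :
    Cfsg.IsPiHallOf π (MulAut.conj g • H) K := by
  obtain ⟨hle, hH⟩ := piHallOf_iff.mp h
  have hle' : MulAut.conj g • H ≤ K :=
    conj_smul_eq_self_of_mem_normalizer hg ▸ Subgroup.pointwise_smul_le_pointwise_smul_iff.mpr hle
  refine piHallOf_iff.mpr ⟨hle', piHall_of_card_eq hH ?_⟩
  rw [Nat.card_congr (Subgroup.subgroupOfEquivOfLe hle').toEquiv,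
    Nat.card_congr (Subgroup.subgroupOfEquivOfLe hle).toEquiv, card_conj_smul]

theorem HallD.conj_piHallOf [Finite G] {π : Set ℕ} {K H₁ H₂ : Subgroup G} (hD : HallD π K)
    (h1 : Cfsg.IsPiHallOf π H₁ K) (h2 : Cfsg.IsPiHallOf π H₂ K) :
    ∃ k ∈ K, MulAut.conj k • H₁ = H₂ := by
  obtain ⟨k, hk⟩ := hD.conj (piHallOf_iff.mp h1).2 (piHallOf_iff.mp h2).2
  refine ⟨k, k.2, ?_⟩
  have h' := conj_smul_map K.subtype k (H₁.subgroupOf K)
  rw [hk, Subgroup.map_subgroupOf_eq_of_le h1.1, Subgroup.map_subgroupOf_eq_of_le h2.1] at h'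
  exact h'

/-- Existence of an `A`-invariant Hall π-subgroup. -/
theorem exists_invariant_piHall [Finite G] {π : Set ℕ} {A K : Subgroup G}
    (hAK : A ≤ Subgroup.normalizer (K : Set G)) (hcop : (Nat.card A).Coprime (Nat.card K))
    (hsolv : Group.IsSolvable A ∨ Group.IsSolvable K) (hD : HallD π K) :
    ∃ H : Subgroup G, Cfsg.IsPiHallOf π H K ∧ A ≤ Subgroup.normalizer (H : Set G) := by
  obtain ⟨H₀, hH₀, -⟩ := id hD
  have h₀ := piHallOf_map_subtype hH₀
  obtain ⟨k, hk, h⟩ := exists_normalized_conj hAK hcop hsolv _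
    fun a ha => hD.conj_piHallOf h₀ (piHallOf_conj_smul (hAK ha) h₀)
  exact ⟨_, piHallOf_conj_smul (Subgroup.le_normalizer hk) h₀, h⟩

/-- `A`-invariant Hall π-subgroups are conjugate under `C_K(A)`. -/
theorem invariant_piHall_conj [Finite G] {π : Set ℕ} {A K H₁ H₂ : Subgroup G}
    (hAK : A ≤ Subgroup.normalizer (K : Set G)) (hcop : (Nat.card A).Coprime (Nat.card K))
    (hsolv : Group.IsSolvable A ∨ Group.IsSolvable K) (hD : HallD π K)
    (h1 : Cfsg.IsPiHallOf π H₁ K) (hA1 : A ≤ Subgroup.normalizer (H₁ : Set G))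
    (h2 : Cfsg.IsPiHallOf π H₂ K) (hA2 : A ≤ Subgroup.normalizer (H₂ : Set G)) :
    ∃ c ∈ K ⊓ Subgroup.centralizer (A : Set G), MulAut.conj c • H₁ = H₂ :=
  exists_centralizing_conj_eq hAK hcop hsolv hA1 hA2 (hD.conj_piHallOf h1 h2)

/-- The intersection of a Hall subgroup with a normalized subgroup is a Hall subgroup of it. -/
theorem relIndex_dvd_of_normalizes [Finite G] {M K L : Subgroup G} (hM : M ≤ L) (hK : K ≤ L)
    (hn : M ≤ Subgroup.normalizer (K : Set G)) : (M ⊓ K).relIndex K ∣ M.relIndex L := by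
  have hcard : ∀ {A B : Subgroup G}, A ≤ B → Nat.card A * A.relIndex B = Nat.card B := by
    intro A B h
    rw [← Subgroup.relIndex_bot_left, ← Subgroup.relIndex_bot_left,
      Subgroup.relIndex_mul_relIndex _ _ _ bot_le h]
  have h1 := hcard (inf_le_right : M ⊓ K ≤ K)
  have h2 := card_sup_mul_card_inf hn
  have h3 := hcard hM
  have h4 : Nat.card ↥(M ⊔ K) ∣ Nat.card L := Subgroup.card_dvd_of_le (sup_le hM hK)
  have h5 : Nat.card ↥(M ⊔ K) = Nat.card M * (M ⊓ K).relIndex K := by
    apply Nat.eq_of_mul_eq_mul_right (Nat.card_pos (α := ↥(M ⊓ K)))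
    rw [h2, ← h1]; ring
  rw [h5, ← h3] at h4
  exact Nat.dvd_of_mul_dvd_mul_left Nat.card_pos h4

/-- For solvable `K`, every `A`-invariant π-subgroup lies in an `A`-invariant Hall π-subgroup. -/
theorem exists_invariant_piHall_ge [Finite G] {π : Set ℕ} {A K U : Subgroup G}
    (hAK : A ≤ Subgroup.normalizer (K : Set G)) (hcop : (Nat.card A).Coprime (Nat.card K))
    (hK : Group.IsSolvable K) (hUK : U ≤ K) (hUA : A ≤ Subgroup.normalizer (U : Set G))
    (hU : Cfsg.IsPiSubgroup π U) :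
    ∃ H : Subgroup G, Cfsg.IsPiHallOf π H K ∧ A ≤ Subgroup.normalizer (H : Set G) ∧ U ≤ H := by
  set L := A ⊔ K with hL
  have hLK : L ≤ Subgroup.normalizer (K : Set G) := sup_le hAK Subgroup.le_normalizer
  set σ : Set ℕ := π ∪ {p | p ∣ Nat.card A} with hσ
  have hD : HallD σ L := by
    have : (K.subgroupOf L).Normal := Subgroup.normal_subgroupOf_of_le_normalizer hLK
    refine hallD_of_solvable_normal (K.subgroupOf L) (isSolvable_subgroupOf L hK)
      (hallD_of_piGroup fun p hp hd => Or.inr ?_)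
    have hidx : (K.subgroupOf L).index = Nat.card A := by
      have h := (K.subgroupOf L).card_mul_index
      rw [Nat.card_congr (Subgroup.subgroupOfEquivOfLe (le_sup_right : K ≤ L)).toEquiv,
        card_sup_of_inf_eq_bot hAK (inf_eq_bot_of_coprime hcop), mul_comm (Nat.card A)] at h
      exact Nat.eq_of_mul_eq_mul_left Nat.card_pos h
    rwa [← Subgroup.index_eq_card, hidx] at hd
  have hUAle : A ⊔ U ≤ L := sup_le le_sup_left (hUK.trans le_sup_right)
  have hUApi : Cfsg.IsPiSubgroup σ ((A ⊔ U).subgroupOf L) := by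
    intro p hp hd
    rw [Nat.card_congr (Subgroup.subgroupOfEquivOfLe hUAle).toEquiv] at hd
    exact (hp.dvd_mul.mp (hd.trans (card_sup_dvd hUA))).elim Or.inr fun h => Or.inl (hU p hp h)
  obtain ⟨M', hM', hle⟩ := hD.exists_le hUApi
  obtain ⟨hML, hMσ, hMidx⟩ := piHallOf_map_subtype hM'
  set M := M'.map L.subtype with hM
  have hAUM : A ⊔ U ≤ M := by
    have h := Subgroup.map_mono (f := L.subtype) hle
    rwa [Subgroup.map_subgroupOf_eq_of_le hUAle] at h
  refine ⟨M ⊓ K, ⟨inf_le_right, fun p hp hd => ?_, fun p hp hπ hd => ?_⟩,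
    le_normalizer_inf_inf ((le_sup_left.trans hAUM).trans Subgroup.le_normalizer) hAK,
    le_inf (le_sup_right.trans hAUM) hUK⟩
  · rcases hMσ p hp (hd.trans (Subgroup.card_dvd_of_le inf_le_left)) with h | h
    · exact h
    · exact absurd (Nat.eq_one_of_dvd_coprimes hcop h
        (hd.trans (Subgroup.card_dvd_of_le inf_le_right))) hp.ne_one
  · exact hMidx p hp (Or.inl hπ)
      (hd.trans (relIndex_dvd_of_normalizes hML le_sup_right (hML.trans hLK)))

theorem piSubgroup_singleton_iff [Finite G] {p : ℕ} [hp : Fact p.Prime] {U : Subgroup G} :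
    Cfsg.IsPiSubgroup {p} U ↔ IsPGroup p U := by
  constructor
  · intro h
    exact IsPGroup.of_card (n := (Nat.card U).primeFactorsList.length)
      (Nat.eq_prime_pow_of_unique_prime_dvd Nat.card_pos.ne'
        fun {d} hd hdvd => by simpa using h d hd hdvd)
  · intro h q hq hd
    obtain ⟨k, hk⟩ := IsPGroup.iff_card.mp h
    exact Set.mem_singleton_iff.mpr
      ((Nat.prime_dvd_prime_iff_eq hq hp.out).mp (hq.dvd_of_dvd_pow (hk ▸ hd)))

theorem sylow_isPiHall [Finite G] {p : ℕ} [hp : Fact p.Prime] (P : Sylow p G) :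
    Cfsg.IsPiHall {p} (P : Subgroup G) := by
  refine ⟨piSubgroup_singleton_iff.mpr P.2, fun q hq hqp hd => ?_⟩
  rw [Set.mem_singleton_iff] at hqp
  exact P.not_dvd_index (hqp ▸ hd)

theorem hallD_singleton [Finite G] {p : ℕ} [hp : Fact p.Prime] : HallD {p} G := by
  obtain ⟨P⟩ : Nonempty (Sylow p G) := inferInstance
  refine ⟨P, sylow_isPiHall P, fun U hU => ?_⟩
  obtain ⟨Q, hQ⟩ := (piSubgroup_singleton_iff.mp hU).exists_le_sylow
  obtain ⟨g, hg⟩ := MulAction.exists_smul_eq G Q P
  exact ⟨g, hg ▸ Subgroup.pointwise_smul_le_pointwise_smul_iff.mpr hQ⟩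

theorem exists_sylow_map_eq [Finite G] {p : ℕ} [hp : Fact p.Prime] {H K : Subgroup G}
    (h : Cfsg.IsPiHallOf {p} H K) : ∃ P : Sylow p K, (P : Subgroup K).map K.subtype = H := by
  obtain ⟨hle, hH⟩ := piHallOf_iff.mp h
  obtain ⟨P₀⟩ : Nonempty (Sylow p K) := inferInstance
  refine ⟨Sylow.ofCard (H.subgroupOf K)
    ((piHall_card_eq hH (sylow_isPiHall P₀)).trans P₀.card_eq_multiplicity), ?_⟩
  exact Subgroup.map_subgroupOf_eq_of_le hle

/-- An `A`-invariant Sylow subgroup. -/
theorem exists_invariant_sylow [Finite G] {p : ℕ} [Fact p.Prime] {A K : Subgroup G}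
    (hAK : A ≤ Subgroup.normalizer (K : Set G)) (hcop : (Nat.card A).Coprime (Nat.card K))
    (hsolv : Group.IsSolvable A ∨ Group.IsSolvable K) :
    ∃ P : Sylow p K, A ≤ Subgroup.normalizer ((P : Subgroup K).map K.subtype : Set G) := by
  obtain ⟨H, hH, hAH⟩ := exists_invariant_piHall hAK hcop hsolv (hallD_singleton (p := p))
  obtain ⟨P, rfl⟩ := exists_sylow_map_eq hH
  exact ⟨P, hAH⟩

/-- `A`-invariant Sylow subgroups are conjugate under `C_K(A)`. -/
theorem invariant_sylow_conj [Finite G] {p : ℕ} [Fact p.Prime] {A K : Subgroup G}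
    (hAK : A ≤ Subgroup.normalizer (K : Set G)) (hcop : (Nat.card A).Coprime (Nat.card K))
    (hsolv : Group.IsSolvable A ∨ Group.IsSolvable K) (P Q : Sylow p K)
    (hP : A ≤ Subgroup.normalizer ((P : Subgroup K).map K.subtype : Set G))
    (hQ : A ≤ Subgroup.normalizer ((Q : Subgroup K).map K.subtype : Set G)) :
    ∃ c : K, (c : G) ∈ Subgroup.centralizer (A : Set G) ∧ MulAut.conj c • P = Q := by
  obtain ⟨c, hc, h⟩ := invariant_piHall_conj hAK hcop hsolv (hallD_singleton (p := p))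
    (piHallOf_map_subtype (sylow_isPiHall P)) hP (piHallOf_map_subtype (sylow_isPiHall Q)) hQ
  refine ⟨⟨c, hc.1⟩, hc.2, Sylow.ext ?_⟩
  have h' := conj_smul_map K.subtype (⟨c, hc.1⟩ : K) (P : Subgroup K)
  rw [show MulAut.conj (K.subtype ⟨c, hc.1⟩) • (P : Subgroup K).map K.subtype
      = MulAut.conj c • (P : Subgroup K).map K.subtype from rfl, h] at h'
  exact (Subgroup.map_injective K.subtype_injective h').symm

/-- Every `A`-invariant `p`-subgroup lies in an `A`-invariant Sylow subgroup. -/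
theorem exists_invariant_sylow_ge [Finite G] {p : ℕ} [hp : Fact p.Prime] {A K : Subgroup G}
    (hAK : A ≤ Subgroup.normalizer (K : Set G)) (hcop : (Nat.card A).Coprime (Nat.card K))
    (hsolv : Group.IsSolvable A ∨ Group.IsSolvable K) {U : Subgroup G} (hUK : U ≤ K)
    (hU : IsPGroup p U) (hUA : A ≤ Subgroup.normalizer (U : Set G)) :
    ∃ P : Sylow p K, U ≤ (P : Subgroup K).map K.subtype ∧
      A ≤ Subgroup.normalizer ((P : Subgroup K).map K.subtype : Set G) := by
  obtain ⟨H, hHU, hH⟩ := Set.Finite.exists_le_maximal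
    (Set.toFinite {V : Subgroup G | V ≤ K ∧ IsPGroup p V ∧ A ≤ Subgroup.normalizer (V : Set G)})
    (a := U) ⟨hUK, hU, hUA⟩
  obtain ⟨⟨hHK, hHp, hHA⟩, hmax⟩ := hH
  set N := K ⊓ Subgroup.normalizer (H : Set G) with hN
  have hAN : A ≤ Subgroup.normalizer (N : Set G) :=
    le_normalizer_inf_inf hAK (hHA.trans Subgroup.le_normalizer)
  have hcopN : (Nat.card A).Coprime (Nat.card N) :=
    hcop.coprime_dvd_right (Subgroup.card_dvd_of_le inf_le_left)
  obtain ⟨Q, hQ⟩ := exists_invariant_sylow (p := p) hAN hcopN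
    (hsolv.imp id (isSolvable_of_le inf_le_left))
  have hHN : H ≤ N := le_inf hHK Subgroup.le_normalizer
  have hHQ : H ≤ (Q : Subgroup N).map N.subtype := by
    have hnorm : (H.subgroupOf N).Normal :=
      Subgroup.normal_subgroupOf_of_le_normalizer inf_le_right
    have hpH : IsPGroup p (H.subgroupOf N) :=
      hHp.comap_of_injective N.subtype N.subtype_injective
    obtain ⟨Q', hQ'⟩ := hpH.exists_le_sylow
    obtain ⟨g, hg⟩ := MulAction.exists_smul_eq N Q' Q
    have hle : H.subgroupOf N ≤ (Q : Subgroup N) := by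
      rw [← hg, ← conj_smul_eq_self_of_mem_normalizer (g := g)
        (Subgroup.le_normalizer_of_normal (K := ⊤) (Subgroup.mem_top g) :
          g ∈ Subgroup.normalizer ((H.subgroupOf N : Subgroup N) : Set N))]
      exact Subgroup.pointwise_smul_le_pointwise_smul_iff.mpr hQ'
    have := Subgroup.map_mono (f := N.subtype) hle
    rwa [Subgroup.map_subgroupOf_eq_of_le hHN] at this
  have hQle : (Q : Subgroup N).map N.subtype ≤ H :=
    hmax ⟨(Subgroup.map_subtype_le _).trans inf_le_left, Q.2.map _, hQ⟩ hHQ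
  obtain ⟨S, hS⟩ := (hHp.comap_of_injective K.subtype K.subtype_injective :
    IsPGroup p (H.subgroupOf K)).exists_le_sylow
  refine ⟨S, ?_, ?_⟩
  all_goals
    have heq : (S : Subgroup K).map K.subtype = H := by
      set S' := (S : Subgroup K).map K.subtype with hS'
      have hHS : H ≤ S' := by
        have := Subgroup.map_mono (f := K.subtype) hS
        exact (Subgroup.map_subgroupOf_eq_of_le hHK).ge.trans this
      by_contra hne
      have : Group.IsNilpotent S' := (S.2.map K.subtype).isNilpotent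
      have hlt : H.subgroupOf S' < ⊤ := lt_top_iff_ne_top.mpr fun h =>
        hne (le_antisymm (Subgroup.subgroupOf_eq_top.mp h) hHS)
      have hlt' := Group.normalizerCondition_of_isNilpotent _ hlt
      obtain ⟨x, hx, hxH⟩ := SetLike.exists_of_lt hlt'
      have hxN : (x : G) ∈ N := by
        refine ⟨Subgroup.map_subtype_le _ x.2, ?_⟩
        rw [← Subgroup.subgroupOf_normalizer_eq hHS, Subgroup.mem_subgroupOf] at hx
        exact hx
      -- the p-group `⟨H, x⟩` lies in `N`, so its order is at most `|Q|`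
      have hpx : IsPGroup p ↥((S' ⊓ N).subgroupOf N) :=
        ((S.2.map K.subtype).to_le inf_le_left).comap_of_injective N.subtype N.subtype_injective
      have hle := Nat.le_of_dvd Nat.card_pos (piSubgroup_card_dvd_piHall
        (piSubgroup_singleton_iff.mpr hpx) (sylow_isPiHall Q))
      rw [Nat.card_congr (Subgroup.subgroupOfEquivOfLe (inf_le_right : S' ⊓ N ≤ N)).toEquiv,
        Nat.card_congr ((Q : Subgroup N).equivMapOfInjective _ N.subtype_injective).toEquiv] at hle
      have heq' := Subgroup.eq_of_le_of_card_ge (le_inf hHS hHN)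
        (hle.trans (Nat.le_of_dvd Nat.card_pos (Subgroup.card_dvd_of_le hQle)))
      exact hxH (Subgroup.mem_subgroupOf.mpr (heq' ▸ ⟨x.2, hxN⟩))
  · exact heq ▸ hHU
  · exact heq ▸ hHA

theorem commutator_le_of_le_normalizer {A K : Subgroup G}
    (hAK : A ≤ Subgroup.normalizer (K : Set G)) : ⁅K, A⁆ ≤ K :=
  Subgroup.le_normalizer_iff_commutator_le_left.mp hAK

/-- `K = [K, A] C_K(A)` in product form. -/
theorem exists_commutator_mul_centralizer [Finite G] {A K : Subgroup G}
    (hAK : A ≤ Subgroup.normalizer (K : Set G)) (hcop : (Nat.card A).Coprime (Nat.card K))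
    (hsolv : Group.IsSolvable A ∨ Group.IsSolvable K) {k : G} (hk : k ∈ K) :
    ∃ c ∈ K ⊓ Subgroup.centralizer (A : Set G), k * c⁻¹ ∈ ⁅K, A⁆ := by
  have hNK := commutator_le_of_le_normalizer hAK
  have hfix : ∀ a ∈ A, k⁻¹ * (a * k * a⁻¹) ∈ ⁅K, A⁆ := by
    intro a ha
    have := Subgroup.commutator_mem_commutator (K.inv_mem hk) ha
    rw [commutatorElement_def] at this
    simpa [mul_assoc] using this
  obtain ⟨c, hc, hkc⟩ := exists_centralizing_in_coset (Subgroup.normalizer_commutator_ge_right K A)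
    (hcop.coprime_dvd_right (Subgroup.card_dvd_of_le hNK))
    (hsolv.imp id (isSolvable_of_le hNK)) hfix
  refine ⟨c, ⟨by simpa using K.mul_mem hk (hNK hkc), hc⟩, ?_⟩
  have := (Subgroup.mem_normalizer_iff.mp (Subgroup.normalizer_commutator_ge_left K A hk)
    (k⁻¹ * c)⁻¹).mp (⁅K, A⁆.inv_mem hkc)
  simpa [mul_assoc] using this

/-- `K = [K, A] C_K(A)`. -/
theorem commutator_sup_centralizer [Finite G] {A K : Subgroup G}
    (hAK : A ≤ Subgroup.normalizer (K : Set G)) (hcop : (Nat.card A).Coprime (Nat.card K))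
    (hsolv : Group.IsSolvable A ∨ Group.IsSolvable K) :
    ⁅K, A⁆ ⊔ (K ⊓ Subgroup.centralizer (A : Set G)) = K := by
  refine le_antisymm (sup_le (commutator_le_of_le_normalizer hAK) inf_le_left) fun k hk => ?_
  obtain ⟨c, hc, h⟩ := exists_commutator_mul_centralizer hAK hcop hsolv hk
  simpa using Subgroup.mul_mem_sup h hc

/-- `[K, A, A] = [K, A]`. -/
theorem commutator_commutator_eq [Finite G] {A K : Subgroup G}
    (hAK : A ≤ Subgroup.normalizer (K : Set G)) (hcop : (Nat.card A).Coprime (Nat.card K))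
    (hsolv : Group.IsSolvable A ∨ Group.IsSolvable K) : ⁅⁅K, A⁆, A⁆ = ⁅K, A⁆ := by
  refine le_antisymm (Subgroup.commutator_mono (commutator_le_of_le_normalizer hAK) le_rfl) ?_
  refine Subgroup.commutator_le.mpr fun k hk a ha => ?_
  obtain ⟨c, hc, h⟩ := exists_commutator_mul_centralizer hAK hcop hsolv hk
  have e : ⁅k, a⁆ = ⁅k * c⁻¹, a⁆ := by
    have hca : c * a * c⁻¹ = a := by
      rw [← Subgroup.mem_centralizer_iff.mp hc.2 a ha]; group
    calc ⁅k, a⁆ = k * c⁻¹ * (c * a * c⁻¹) * (c * k⁻¹) * a⁻¹ := by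
            rw [commutatorElement_def]; group
      _ = k * c⁻¹ * a * (c * k⁻¹) * a⁻¹ := by rw [hca]
      _ = ⁅k * c⁻¹, a⁆ := by rw [commutatorElement_def]; group
  rw [e]
  exact Subgroup.commutator_mem_commutator h ha

end CfsgLib.Coprime
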